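import Groth.Agent.GrpdEtQuot.Tools

/-!
# Etale morphisms of affine groupoids, in rings
-/

set_option autoImplicit false

universe u

open scoped TensorProduct

namespace Groth.Agent.GrpdEtQuot

variable {K A A' B B' : Type u} [CommRing K] [CommRing A] [Algebra K A] [CommRing A'] [Algebra K A']
  [Algebra A A'] [IsScalarTower K A A'] [CommRing B] [Algebra K B] [CommRing B'] [Algebra K B']

/-- A cartesian stabilizer preserving morphism of affine groupoids, over the invariants of the target. -/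
structure CartData (s t : A →ₐ[K] B) (s' t' : A' →ₐ[K] B') (g : B →ₐ[K] B') : Prop where
  gs : ∀ a, s' (algebraMap A A' a) = g (s a)
  gt : ∀ a, t' (algebraMap A A' a) = g (t a)
  inj : Function.Injective (algebraMap K A)
  inv_iff : ∀ a, s a = t a ↔ a ∈ Set.range (algebraMap K A)
  intA : Algebra.IsIntegral K A
  sfin : s.toRingHom.Finite
  sqs : ∀ {T : Type u} [CommRing T] [Algebra K T] (φ : A' →ₐ[K] T) (ρ : B →ₐ[K] T),
    (∀ a, φ (algebraMap A A' a) = ρ (s a)) → ∃ ρ' : B' →ₐ[K] T, ρ'.comp s' = φ ∧ ρ'.comp g = ρ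
  sqt : ∀ {T : Type u} [CommRing T] [Algebra K T] (φ : A' →ₐ[K] T) (ρ : B →ₐ[K] T),
    (∀ a, φ (algebraMap A A' a) = ρ (t a)) → ∃ ρ' : B' →ₐ[K] T, ρ'.comp t' = φ ∧ ρ'.comp g = ρ
  exts : ∀ {T : Type u} [CommRing T] [Algebra K T] (ρ₁ ρ₂ : B' →ₐ[K] T),
    ρ₁.comp s' = ρ₂.comp s' → ρ₁.comp g = ρ₂.comp g → ρ₁ = ρ₂
  extt : ∀ {T : Type u} [CommRing T] [Algebra K T] (ρ₁ ρ₂ : B' →ₐ[K] T),
    ρ₁.comp t' = ρ₂.comp t' → ρ₁.comp g = ρ₂.comp g → ρ₁ = ρ₂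
  comp : ∀ {T : Type u} [Field T] [Algebra K T] (ρ₁ ρ₂ : B' →ₐ[K] T),
    ρ₁.comp s' = ρ₂.comp t' → ∃ ρ : B' →ₐ[K] T, ρ.comp t' = ρ₁.comp t' ∧ ρ.comp s' = ρ₂.comp s'
  inv : ∀ {T : Type u} [Field T] [Algebra K T] (ρ : B' →ₐ[K] T),
    ∃ ρ' : B' →ₐ[K] T, ρ'.comp t' = ρ.comp s' ∧ ρ'.comp s' = ρ.comp t'
  refl : ∀ {T : Type u} [Field T] [Algebra K T] (φ : A' →ₐ[K] T),
    ∃ ρ : B' →ₐ[K] T, ρ.comp t' = φ ∧ ρ.comp s' = φ
  loop : ∀ {T : Type u} [Field T] [Algebra K T] (ρ : B' →ₐ[K] T),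
    (∀ a, ρ (t' (algebraMap A A' a)) = ρ (s' (algebraMap A A' a))) → ρ.comp t' = ρ.comp s'
  trans : ∀ {T : Type u} [Field T] [IsAlgClosed T] [Algebra K T] (x₀ x₁ : A →ₐ[K] T),
    ∃ χ : B →ₐ[K] T, χ.comp t = x₀ ∧ χ.comp s = x₁

end Groth.Agent.GrpdEtQuot
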