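import Groth.Agent.GrpdEtQuot.Local
import Groth.Agent.SrcDescent.Scheme
import Mathlib.AlgebraicGeometry.Morphisms.Etale
import Mathlib.AlgebraicGeometry.Limits

/-!
# The morphism of invariants is etale and cartesian
-/

set_option autoImplicit false
set_option maxHeartbeats 400000
set_option backward.isDefEq.respectTransparency.types false

universe u

open CategoryTheory CategoryTheory.Limits AlgebraicGeometry
open scoped TensorProduct

namespace Groth.Agent.GrpdEtQuot

variable {K A A' B B' : Type u} [CommRing K] [CommRing A] [Algebra K A] [CommRing A'] [Algebra K A']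
  [Algebra A A'] [IsScalarTower K A A'] [CommRing B] [Algebra K B] [CommRing B'] [Algebra K B']
  {s t : A →ₐ[K] B} {s' t' : A' →ₐ[K] B'} {g : B →ₐ[K] B'}

theorem CartData.bijective_tensor (h : CartData s t s' t' g) [Algebra.Etale A A']
    (hlift : ∀ q : PrimeSpectrum (AlgHom.equalizer s' t'), ∃ Q : PrimeSpectrum A',
      Q.asIdeal.comap (AlgHom.equalizer s' t').val.toRingHom = q.asIdeal) :
    Function.Bijective (Algebra.TensorProduct.lift (AlgHom.equalizer s' t').val
      (IsScalarTower.toAlgHom K A A') fun _ _ => .all _ _) := by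
  set K' := AlgHom.equalizer s' t'
  let α : K' ⊗[K] A →ₐ[K] A' :=
    Algebra.TensorProduct.lift K'.val (IsScalarTower.toAlgHom K A A') fun _ _ => .all _ _
  have hα : ∀ k a, α (k ⊗ₜ a) = (k : A') * algebraMap A A' a := fun k a =>
    Algebra.TensorProduct.lift_tmul K'.val _ (fun _ _ => .all _ _) k a
  refine ⟨(injective_iff_map_eq_zero _).2 fun x hx => ?_, fun a' => ?_⟩
  · refine eq_zero_of_forall_tmul (R := K') x fun q hq => ?_
    obtain ⟨Q, hQ⟩ := hlift ⟨q, hq.isPrime⟩
    obtain ⟨D, _, _, _, γ, d, φ, hγet, hd, hφf, hφk, -⟩ := h.exists_nbhd ⟨q, hq.isPrime⟩ Q hQ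
    let : Algebra K' D := γ.toRingHom.toAlgebra
    have : Algebra.Etale K' D := RingHom.etale_algebraMap.1 hγet
    refine ⟨D, inferInstance, inferInstance, inferInstance, d, hd, ?_⟩
    have hKD : ∀ (k : K') (r : D), k • r = γ k * r := fun k r => rfl
    let Λ : A ⊗[K] D →+ (K' ⊗[K] A) ⊗[K'] D := TensorProduct.liftAddHom
      { toFun := fun a => { toFun := fun r => ((1 : K') ⊗ₜ[K] a) ⊗ₜ[K'] r, map_zero' := TensorProduct.tmul_zero _ _,
                            map_add' := fun r r' => TensorProduct.tmul_add _ _ _ }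
        map_zero' := by ext r; simp
        map_add' := fun a b => by ext r; simp [TensorProduct.tmul_add, TensorProduct.add_tmul] }
      (fun k a r => by
        show ((1 : K') ⊗ₜ[K] (k • a)) ⊗ₜ[K'] r = ((1 : K') ⊗ₜ[K] a) ⊗ₜ[K'] (k • r)
        rw [TensorProduct.tmul_smul, ← algebraMap_smul K' k ((1 : K') ⊗ₜ[K] a), TensorProduct.smul_tmul,
          hKD, AlgHom.commutes, Algebra.smul_def])
    have hΛ : ∀ a r, Λ (a ⊗ₜ r) = ((1 : K') ⊗ₜ[K] a) ⊗ₜ[K'] r := fun a r => rfl
    have key : ∀ y : K' ⊗[K] A, Λ (φ (α y)) = y ⊗ₜ[K'] (1 : D) := fun y => by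
      induction y using TensorProduct.induction_on with
      | zero => simp
      | tmul k a =>
        rw [hα, map_mul, hφk, hφf, Algebra.TensorProduct.tmul_mul_tmul, one_mul, mul_one, hΛ,
          ← mul_one (γ k), ← hKD, ← TensorProduct.smul_tmul, TensorProduct.smul_tmul', smul_eq_mul, mul_one]
      | add a b ha hb => simp only [map_add, ha, hb, TensorProduct.add_tmul]
    rw [← key, show α x = 0 from hx, map_zero, map_zero]
  · let N : Submodule K' A' :=
      { carrier := Set.range α
        add_mem' := by rintro _ _ ⟨x, rfl⟩ ⟨y, rfl⟩; exact ⟨x + y, map_add α x y⟩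
        zero_mem' := ⟨0, map_zero α⟩
        smul_mem' := by
          rintro k _ ⟨x, rfl⟩
          exact ⟨(k ⊗ₜ 1) * x, by rw [map_mul, hα, map_one, mul_one]; rfl⟩ }
    suffices hm : (Submodule.Quotient.mk a' : A' ⧸ N) = 0 from (Submodule.Quotient.mk_eq_zero N).1 hm
    refine eq_zero_of_forall_tmul (R := K') _ fun q hq => ?_
    obtain ⟨Q, hQ⟩ := hlift ⟨q, hq.isPrime⟩
    obtain ⟨D, _, _, _, γ, d, φ, hγet, hd, hφf, hφk, hθ⟩ := h.exists_nbhd ⟨q, hq.isPrime⟩ Q hQ
    let : Algebra K' D := γ.toRingHom.toAlgebra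
    have : Algebra.Etale K' D := RingHom.etale_algebraMap.1 hγet
    refine ⟨D, inferInstance, inferInstance, inferInstance, d, hd, ?_⟩
    have hKD : ∀ (k : K') (r : D), k • r = γ k * r := fun k r => rfl
    let θ : A ⊗[K] D →+ A' ⊗[K'] D := TensorProduct.liftAddHom
      { toFun := fun a => { toFun := fun r => algebraMap A A' a ⊗ₜ[K'] r, map_zero' := TensorProduct.tmul_zero _ _,
                            map_add' := fun r r' => TensorProduct.tmul_add _ _ _ }
        map_zero' := by ext r; simp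
        map_add' := fun a b => by ext r; simp [TensorProduct.add_tmul] }
      (fun k a r => by
        show algebraMap A A' (k • a) ⊗ₜ[K'] r = algebraMap A A' a ⊗ₜ[K'] (k • r)
        rw [Algebra.smul_def, map_mul, ← IsScalarTower.algebraMap_apply, ← Algebra.smul_def,
          ← algebraMap_smul K' k (algebraMap A A' a), TensorProduct.smul_tmul, hKD, AlgHom.commutes,
          Algebra.smul_def])
    have hθ0 : ∀ z, N.mkQ.rTensor D (θ z) = 0 := fun z => by
      induction z using TensorProduct.induction_on with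
      | zero => simp
      | tmul a r =>
        show N.mkQ (algebraMap A A' a) ⊗ₜ[K'] r = 0
        rw [Submodule.mkQ_apply, (Submodule.Quotient.mk_eq_zero N).2 ⟨1 ⊗ₜ a, by rw [hα]; exact one_mul _⟩,
          TensorProduct.zero_tmul]
      | add a b ha hb => simp only [map_add, ha, hb, add_zero]
    have := hθ0 (φ a')
    rwa [hθ θ (fun a r => rfl) a', LinearMap.rTensor_tmul] at this

theorem CartData.etale_invariants (h : CartData s t s' t' g) [Algebra.Etale A A']
    (hlift : ∀ q : PrimeSpectrum (AlgHom.equalizer s' t'), ∃ Q : PrimeSpectrum A',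
      Q.asIdeal.comap (AlgHom.equalizer s' t').val.toRingHom = q.asIdeal) :
    Etale (Spec.map (CommRingCat.ofHom (algebraMap K (AlgHom.equalizer s' t')))) := by
  set K' := AlgHom.equalizer s' t'
  have : ∀ q : PrimeSpectrum K', ∃ (D : Type u) (_ : CommRing D) (_ : Algebra K D) (_ : Algebra.Etale K D)
      (γ : K' →ₐ[K] D) (d : PrimeSpectrum D), γ.toRingHom.Etale ∧ d.asIdeal.comap γ.toRingHom = q.asIdeal := by
    intro q
    obtain ⟨Q, hQ⟩ := hlift q
    obtain ⟨D, i₁, i₂, i₃, γ, d, φ, h1, h2, -⟩ := h.exists_nbhd q Q hQ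
    exact ⟨D, i₁, i₂, i₃, γ, d, h1, h2⟩
  choose D i₁ i₂ i₃ γ d hγ hd using this
  let X : PrimeSpectrum K' → Scheme.{u} := fun q => Spec (CommRingCat.of (D q))
  let f : ∐ X ⟶ Spec (CommRingCat.of K') := Sigma.desc fun q => Spec.map (CommRingCat.ofHom (γ q).toRingHom)
  have hq : ∀ q, Etale (Spec.map (CommRingCat.ofHom (γ q).toRingHom)) := fun q =>
    (HasRingHomProperty.Spec_iff (P := @Etale)).2 (hγ q)
  have : Etale f := IsZariskiLocalAtSource.sigmaDesc hq
  have : Surjective f := ⟨fun q => ⟨Sigma.ι X q (d q), by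
    show f (Sigma.ι X q (d q)) = q
    rw [← Scheme.Hom.comp_apply, Sigma.ι_desc]
    exact PrimeSpectrum.ext (hd q)⟩⟩
  refine SrcDescent.etale_of_etale_comp f _ ?_
  have hcomp : f ≫ Spec.map (CommRingCat.ofHom (algebraMap K K')) =
      Sigma.desc fun q => Spec.map (CommRingCat.ofHom (algebraMap K (D q))) :=
    Sigma.hom_ext _ _ fun q => by
      rw [Sigma.ι_desc_assoc, Sigma.ι_desc, ← Spec.map_comp, ← CommRingCat.ofHom_comp]
      congr 2
      exact (γ q).comp_algebraMap
  rw [hcomp]
  exact IsZariskiLocalAtSource.sigmaDesc fun q =>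
    (HasRingHomProperty.Spec_iff (P := @Etale)).2 (RingHom.etale_algebraMap.2 (i₃ q))

end Groth.Agent.GrpdEtQuot
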