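import Groth.Agent.GrpdEtQuot.Section
import Groth.Agent.Hensel.Colim
import Mathlib.RingTheory.RingHom.Etale
import Mathlib.RingTheory.Localization.Away.Basic

/-!
# Etale neighbourhoods on which the morphism of groupoids splits
-/

set_option autoImplicit false
set_option maxHeartbeats 800000
set_option backward.isDefEq.respectTransparency.types false

universe u

open scoped TensorProduct

namespace Groth.Agent.GrpdEtQuot

theorem exists_trans_kill {K : Type u} [CommRing K] {ι : Type*} {G : ι → Type u} [∀ i, CommRing (G i)]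
    [∀ i, Algebra K (G i)] {R : Type u} [CommRing R] [Algebra K R] {ω : ∀ i, G i →ₐ[K] R}
    (hG : DirColim.IsColim ω) (M : Type u) [CommRing M] [Algebra K M] {β : Type*} (S : Finset β) (i : ι)
    (x : β → M ⊗[K] G i) (hx : ∀ b ∈ S, Algebra.TensorProduct.map (AlgHom.id K M) (ω i) (x b) = 0) :
    ∃ j, ∃ φ : DirColim.Trans ω i j, ∀ b ∈ S, Algebra.TensorProduct.map (AlgHom.id K M) φ.1 (x b) = 0 := by
  classical
  have hmap : ∀ {X Y : Type u} [CommRing X] [Algebra K X] [CommRing Y] [Algebra K Y] (φ : X →ₐ[K] Y) (z : M ⊗[K] X),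
      Algebra.TensorProduct.map (AlgHom.id K M) φ z = φ.toLinearMap.lTensor M z := by
    intro X Y _ _ _ _ φ z
    induction z using TensorProduct.induction_on with
    | zero => simp
    | tmul a b => simp
    | add a b ha hb => simp only [map_add, ha, hb]
  induction S using Finset.induction_on with
  | empty => exact ⟨i, ⟨AlgHom.id K (G i), AlgHom.comp_id _⟩, by simp⟩
  | insert b S hb ih =>
    obtain ⟨j, φ, hφ⟩ := ih fun c hc => hx c (Finset.mem_insert_of_mem hc)
    obtain ⟨k, ψ, hψ⟩ := hG.exists_tensor_eq_zero M j (Algebra.TensorProduct.map (AlgHom.id K M) φ.1 (x b)) (by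
      rw [hmap φ.1, ← LinearMap.lTensor_comp_apply, show (ω j).toLinearMap ∘ₗ φ.1.toLinearMap = (ω i).toLinearMap from
        LinearMap.ext fun z => φ.apply z, ← hmap]
      exact hx b (Finset.mem_insert_self _ _))
    refine ⟨k, ψ.comp φ, fun c hc => ?_⟩
    have hc' : Algebra.TensorProduct.map (AlgHom.id K M) (ψ.comp φ).1 (x c) =
        Algebra.TensorProduct.map (AlgHom.id K M) ψ.1 (Algebra.TensorProduct.map (AlgHom.id K M) φ.1 (x c)) := by
      rw [hmap, hmap, hmap, ← LinearMap.lTensor_comp_apply]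
      rfl
    rw [hc']
    rcases Finset.mem_insert.mp hc with rfl | hc
    · rw [hmap]; exact hψ
    · rw [hφ c hc, map_zero]

variable {K A A' B B' : Type u} [CommRing K] [CommRing A] [Algebra K A] [CommRing A'] [Algebra K A']
  [Algebra A A'] [IsScalarTower K A A'] [CommRing B] [Algebra K B] [CommRing B'] [Algebra K B']
  {s t : A →ₐ[K] B} {s' t' : A' →ₐ[K] B'} {g : B →ₐ[K] B'}

open Hensel in
/-- The section exists on an etale neighbourhood. -/
theorem CartData.exists_stage (h : CartData s t s' t' g) [Algebra.Etale A A'] {Ω : Type u} [Field Ω]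
    [IsAlgClosed Ω] [Algebra K Ω] (φ₀ : A' →ₐ[K] Ω) :
    ∃ (D : Type u) (_ : CommRing D) (_ : Algebra K D) (_ : Algebra.Etale K D) (τ : D →ₐ[K] Ω)
      (φ : A' →ₐ[K] A ⊗[K] D) (χ : B' →ₐ[K] B ⊗[K] D),
      (∀ a, φ (algebraMap A A' a) = a ⊗ₜ 1) ∧ (∀ b, χ (g b) = b ⊗ₜ 1) ∧
      (∀ x, χ (s' x) = Algebra.TensorProduct.map s (AlgHom.id K D) (φ x)) ∧
      (∀ x, χ (t' x) = Algebra.TensorProduct.map t (AlgHom.id K D) (φ x)) ∧
      ∀ x, Algebra.TensorProduct.lift (φ₀.comp (IsScalarTower.toAlgHom K A A')) τ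
        (fun _ _ => .all _ _) (φ x) = φ₀ x := by
  classical
  obtain ⟨φR, χR, hg, hs, ht, hlift⟩ := h.exists_section φ₀
  obtain ⟨N, φN, hφN⟩ := ((EtFound.isColim_henz K Ω).baseChange A).exists_lift φR
  obtain ⟨χN, hχs, hχg⟩ := h.sqs ((Algebra.TensorProduct.map s (AlgHom.id K N.B)).comp (φN.restrictScalars K))
    (Algebra.TensorProduct.includeLeft : B →ₐ[K] B ⊗[K] N.B) (fun a => by
      show Algebra.TensorProduct.map s (AlgHom.id K N.B) (φN (algebraMap A A' a)) = _
      rw [φN.commutes]
      exact Algebra.TensorProduct.map_tmul s (AlgHom.id K N.B) a 1)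
  let wA := Algebra.TensorProduct.map (AlgHom.id K A) (Henz.ofB N)
  let wB := Algebra.TensorProduct.map (AlgHom.id K B) (Henz.ofB N)
  have hwA : ∀ x, wA (φN x) = φR x := fun x => by
    rw [← hφN]
    show wA (φN x) = Algebra.TensorProduct.map (AlgHom.id A A) (Henz.ofB N) (φN x)
    induction φN x using TensorProduct.induction_on with
    | zero => simp
    | tmul a b => rfl
    | add a b ha hb => simp only [map_add, ha, hb]
  have hnat : ∀ (σ : A →ₐ[K] B) (z : A ⊗[K] N.B),
      wB (Algebra.TensorProduct.map σ (AlgHom.id K N.B) z) =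
        Algebra.TensorProduct.map σ (AlgHom.id K (Henz K Ω)) (wA z) := fun σ z => by
    induction z using TensorProduct.induction_on with
    | zero => simp
    | tmul a b => simp [wA, wB]
    | add a b ha hb => simp only [map_add, ha, hb]
  have hχR : wB.comp χN = χR := h.exts _ _ (AlgHom.ext fun x => by
      show wB (χN (s' x)) = χR (s' x)
      rw [show χN (s' x) = _ from DFunLike.congr_fun hχs x, hs x]
      exact (hnat s _).trans (congrArg _ (hwA x)))
    (by rw [hg, AlgHom.comp_assoc, hχg]; exact AlgHom.ext fun b => by simp [wB])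
  obtain ⟨S, hS⟩ := (Algebra.FiniteType.out : (⊤ : Subalgebra A A').FG)
  obtain ⟨M, σ, hσ⟩ := exists_trans_kill (EtFound.isColim_henz K Ω) B S N
    (fun x => χN (t' x) - Algebra.TensorProduct.map t (AlgHom.id K N.B) (φN x)) (fun x _ => by
      show wB _ = 0
      rw [map_sub, sub_eq_zero, hnat, hwA, ← AlgHom.comp_apply, hχR]
      exact ht x)
  let vA := Algebra.TensorProduct.map (AlgHom.id K A) σ.1
  let vB := Algebra.TensorProduct.map (AlgHom.id K B) σ.1
  let φM : A' →ₐ[K] A ⊗[K] M.B := vA.comp (φN.restrictScalars K)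
  have hnat' : ∀ (τ : A →ₐ[K] B) (z : A ⊗[K] N.B),
      vB (Algebra.TensorProduct.map τ (AlgHom.id K N.B) z) =
        Algebra.TensorProduct.map τ (AlgHom.id K M.B) (vA z) := fun τ z => by
    induction z using TensorProduct.induction_on with
    | zero => simp
    | tmul a b => simp [vA, vB]
    | add a b ha hb => simp only [map_add, ha, hb]
  have hφf : ∀ a, φM (algebraMap A A' a) = a ⊗ₜ 1 := fun a => by
    show vA (φN (algebraMap A A' a)) = _
    rw [φN.commutes]
    exact (Algebra.TensorProduct.map_tmul (AlgHom.id K A) σ.1 a 1).trans (by rw [map_one]; rfl)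
  have hχf : ∀ b, vB (χN (g b)) = b ⊗ₜ 1 := fun b => by
    rw [show χN (g b) = _ from DFunLike.congr_fun hχg b]
    simp [vB]
  refine ⟨M.B, inferInstance, inferInstance, inferInstance, M.toK, φM, vB.comp χN, hφf, hχf, fun x => ?_, ?_,
    fun x => ?_⟩
  · show vB (χN (s' x)) = _
    rw [show χN (s' x) = _ from DFunLike.congr_fun hχs x]
    exact hnat' s _
  · let tM := Algebra.TensorProduct.map t (AlgHom.id K M.B)
    let : Algebra A (B ⊗[K] M.B) := (tM.toRingHom.comp (algebraMap A (A ⊗[K] M.B))).toAlgebra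
    let u₁ : A' →ₐ[A] B ⊗[K] M.B :=
      { (vB.comp χN).toRingHom.comp t'.toRingHom with
        commutes' := fun a => by
          show vB (χN (t' (algebraMap A A' a))) = tM (algebraMap A (A ⊗[K] M.B) a)
          rw [h.gt, hχf]
          exact (Algebra.TensorProduct.map_tmul t (AlgHom.id K M.B) a 1).symm }
    let u₂ : A' →ₐ[A] B ⊗[K] M.B :=
      { tM.toRingHom.comp φM.toRingHom with commutes' := fun a => congrArg tM (hφf a) }
    have : u₁ = u₂ := AlgHom.ext_of_adjoin_eq_top hS fun x hx => by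
      have h0 := hσ x hx
      rw [map_sub, sub_eq_zero] at h0
      exact h0.trans (hnat' t _)
    exact fun x => DFunLike.congr_fun this x
  · rw [← hlift x, ← hwA]
    show Algebra.TensorProduct.lift _ M.toK _ (vA (φN x)) = _
    induction φN x using TensorProduct.induction_on with
    | zero => simp
    | tmul a r =>
      simp only [vA, wA, Algebra.TensorProduct.map_tmul, AlgHom.id_apply, Algebra.TensorProduct.lift_tmul]
      rw [← σ.apply r, Henz.proj_ofB]
    | add a b ha hb => simp only [map_add, ha, hb]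

/-- Near every prime of the invariants of the source, the morphism of invariants is etale and splits. -/
theorem CartData.exists_nbhd (h : CartData s t s' t' g) [Algebra.Etale A A']
    (q : PrimeSpectrum (AlgHom.equalizer s' t')) (Q : PrimeSpectrum A')
    (hQ : Q.asIdeal.comap (AlgHom.equalizer s' t').val.toRingHom = q.asIdeal) :
    ∃ (D : Type u) (_ : CommRing D) (_ : Algebra K D) (_ : Algebra.Etale K D)
      (γ : AlgHom.equalizer s' t' →ₐ[K] D) (d : PrimeSpectrum D) (φ : A' →ₐ[K] A ⊗[K] D),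
      γ.toRingHom.Etale ∧ d.asIdeal.comap γ.toRingHom = q.asIdeal ∧
      (∀ a, φ (algebraMap A A' a) = a ⊗ₜ 1) ∧ (∀ k, φ k.1 = 1 ⊗ₜ γ k) ∧
      (letI := γ.toRingHom.toAlgebra
       ∀ θ : A ⊗[K] D →+ A' ⊗[AlgHom.equalizer s' t'] D,
        (∀ a r, θ (a ⊗ₜ r) = algebraMap A A' a ⊗ₜ r) → ∀ x, θ (φ x) = x ⊗ₜ 1) := by
  classical
  let K' := AlgHom.equalizer s' t'
  let Ω := AlgebraicClosure Q.asIdeal.ResidueField
  let q₀ : A' →+* Ω := (algebraMap Q.asIdeal.ResidueField Ω).comp (algebraMap A' Q.asIdeal.ResidueField)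
  let : Algebra K Ω := (q₀.comp (algebraMap K A')).toAlgebra
  let φ₀ : A' →ₐ[K] Ω := { q₀ with commutes' := fun k => rfl }
  have hφ₀ : ∀ x, φ₀ x = 0 ↔ x ∈ Q.asIdeal := fun x => by
    show algebraMap Q.asIdeal.ResidueField Ω (algebraMap A' _ x) = 0 ↔ _
    rw [map_eq_zero, Ideal.algebraMap_residueField_eq_zero]
  obtain ⟨D, _, _, _, τ, φ, χ, hφf, hχg, hχs, hχt, hlift⟩ := h.exists_stage φ₀
  let jA : A ⊗[K] D →ₐ[K] A' ⊗[K] D := Algebra.TensorProduct.map (IsScalarTower.toAlgHom K A A') (AlgHom.id K D)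
  let ψ : A' ⊗[K] D →ₐ[K] A ⊗[K] D :=
    Algebra.TensorProduct.lift φ Algebra.TensorProduct.includeRight fun _ _ => .all _ _
  have hψ : ∀ x r, ψ (x ⊗ₜ r) = φ x * (1 ⊗ₜ r) := fun x r =>
    Algebra.TensorProduct.lift_tmul φ _ (fun _ _ => .all _ _) x r
  have hψj : ∀ z, ψ (jA z) = z := fun z => by
    induction z using TensorProduct.induction_on with
    | zero => simp
    | tmul a r =>
      show ψ (algebraMap A A' a ⊗ₜ[K] r) = _
      rw [hψ, hφf, Algebra.TensorProduct.tmul_mul_tmul, mul_one, one_mul]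
    | add a b ha hb => simp only [map_add, ha, hb]
  -- the idempotent of the section
  let u₁ : A' →ₐ[A] A' ⊗[K] D := IsScalarTower.toAlgHom A A' _
  let u₂ : A' →ₐ[A] A' ⊗[K] D :=
    { jA.toRingHom.comp φ.toRingHom with
      commutes' := fun a => by
        show jA (φ (algebraMap A A' a)) = _
        rw [hφf]
        rfl }
  obtain ⟨e, he, he1⟩ := exists_elem_section u₁ u₂
  have hψe : ψ e = 1 := he1 ψ.toRingHom fun x => by
    show ψ (x ⊗ₜ 1) = ψ (jA (φ x))
    rw [hψj, hψ, ← Algebra.TensorProduct.one_def, mul_one]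
  have hkill : ∀ z, (z - jA (ψ z)) * e = 0 := by
    intro z
    induction z using TensorProduct.induction_on with
    | zero => simp
    | tmul x r =>
      have h1 : jA (φ x * (1 ⊗ₜ r)) = jA (φ x) * (1 ⊗ₜ r) := by
        rw [map_mul]; congr 1; simp [jA]
      have h2 : (x ⊗ₜ[K] r : A' ⊗[K] D) = (x ⊗ₜ 1) * (1 ⊗ₜ r) := by
        rw [Algebra.TensorProduct.tmul_mul_tmul, mul_one, one_mul]
      rw [hψ, h1, h2, ← sub_mul, mul_right_comm]
      show (u₁ x - u₂ x) * e * _ = 0
      rw [he, zero_mul]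
    | add a b ha hb => rw [map_add, map_add, add_sub_add_comm, add_mul, ha, hb, add_zero]
  -- it is invariant
  let sD := Algebra.TensorProduct.map s (AlgHom.id K D)
  let tD := Algebra.TensorProduct.map t (AlgHom.id K D)
  let sD' := Algebra.TensorProduct.map s' (AlgHom.id K D)
  let tD' := Algebra.TensorProduct.map t' (AlgHom.id K D)
  let jB : B ⊗[K] D →ₐ[K] B' ⊗[K] D := Algebra.TensorProduct.map g (AlgHom.id K D)
  let ψB : B' ⊗[K] D →ₐ[K] B ⊗[K] D :=
    Algebra.TensorProduct.lift χ Algebra.TensorProduct.includeRight fun _ _ => .all _ _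
  have hψB : ∀ x r, ψB (x ⊗ₜ r) = χ x * (1 ⊗ₜ r) := fun x r =>
    Algebra.TensorProduct.lift_tmul χ _ (fun _ _ => .all _ _) x r
  have hcomm : ∀ (σ : A →ₐ[K] B) (σ' : A' →ₐ[K] B'),
      (∀ x, χ (σ' x) = Algebra.TensorProduct.map σ (AlgHom.id K D) (φ x)) →
      ∀ z, ψB (Algebra.TensorProduct.map σ' (AlgHom.id K D) z) = Algebra.TensorProduct.map σ (AlgHom.id K D) (ψ z) := by
    intro σ σ' hσ z
    induction z using TensorProduct.induction_on with
    | zero => simp
    | tmul x r => rw [Algebra.TensorProduct.map_tmul, AlgHom.id_apply, hψB, hψ, map_mul, hσ]; simp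
    | add a b ha hb => simp only [map_add, ha, hb]
  have hjcomm : ∀ (σ : A →ₐ[K] B) (σ' : A' →ₐ[K] B'), (∀ a, σ' (algebraMap A A' a) = g (σ a)) →
      ∀ z, jB (Algebra.TensorProduct.map σ (AlgHom.id K D) z) = Algebra.TensorProduct.map σ' (AlgHom.id K D) (jA z) := by
    intro σ σ' hσ z
    induction z using TensorProduct.induction_on with
    | zero => simp
    | tmul a r => simp [jA, jB, hσ]
    | add a b ha hb => simp only [map_add, ha, hb]
  have hψBj : ∀ w, ψB (jB w) = w := fun w => by
    induction w using TensorProduct.induction_on with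
    | zero => simp
    | tmul b r =>
      show ψB (g b ⊗ₜ[K] r) = _
      rw [hψB, hχg, Algebra.TensorProduct.tmul_mul_tmul, mul_one, one_mul]
    | add a b ha hb => simp only [map_add, ha, hb]
  have huniv : ∀ (σ : A →ₐ[K] B) (σ' : A' →ₐ[K] B'), (∀ a, σ' (algebraMap A A' a) = g (σ a)) →
      (∀ x, χ (σ' x) = Algebra.TensorProduct.map σ (AlgHom.id K D) (φ x)) →
      (∀ {T : Type u} [CommRing T] [Algebra K T] (ρ₁ ρ₂ : B' →ₐ[K] T),
        ρ₁.comp σ' = ρ₂.comp σ' → ρ₁.comp g = ρ₂.comp g → ρ₁ = ρ₂) →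
      ∀ w, (w - jB (ψB w)) * Algebra.TensorProduct.map σ' (AlgHom.id K D) e = 0 := by
    intro σ σ' hσf hσ hext w
    let eσ := Algebra.TensorProduct.map σ' (AlgHom.id K D) e
    let J : Ideal (B' ⊗[K] D) := (⊥ : Ideal (B' ⊗[K] D)).colon {eσ}
    have hJ : ∀ w, w ∈ J ↔ w * eσ = 0 := fun w => by
      simp [J, Submodule.mem_colon_singleton]
    have hagree : ∀ x : B', (x ⊗ₜ[K] (1 : D)) - jB (ψB (x ⊗ₜ 1)) ∈ J := by
      have := hext ((Ideal.Quotient.mkₐ K J).comp Algebra.TensorProduct.includeLeft)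
        ((Ideal.Quotient.mkₐ K J).comp ((jB.comp ψB).comp Algebra.TensorProduct.includeLeft))
        (AlgHom.ext fun x => by
          refine Ideal.Quotient.eq.2 ((hJ _).2 ?_)
          have h1 := congrArg (Algebra.TensorProduct.map σ' (AlgHom.id K D)) (hkill (x ⊗ₜ 1))
          rw [map_mul, map_sub, map_zero, ← hjcomm σ σ' hσf, ← hcomm σ σ' hσ] at h1
          simpa using h1)
        (AlgHom.ext fun b => by
          refine Ideal.Quotient.eq.2 ((hJ _).2 ?_)
          have : jB (b ⊗ₜ 1) = g b ⊗ₜ 1 := by simp [jB]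
          show (g b ⊗ₜ[K] (1 : D) - jB (ψB (g b ⊗ₜ 1))) * eσ = 0
          rw [← this, hψBj, sub_self, zero_mul])
      exact fun x => Ideal.Quotient.eq.1 (DFunLike.congr_fun this x)
    induction w using TensorProduct.induction_on with
    | zero => simp
    | tmul x r =>
      have h2 : (x ⊗ₜ[K] r : B' ⊗[K] D) = (x ⊗ₜ 1) * (1 ⊗ₜ r) := by
        rw [Algebra.TensorProduct.tmul_mul_tmul, mul_one, one_mul]
      have h3 : jB (ψB (1 ⊗ₜ r)) = 1 ⊗ₜ r := by
        rw [hψB, map_one, one_mul]; simp [jB]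
      have h4 := (hJ _).1 (hagree x)
      rw [h2, map_mul, map_mul, h3, ← sub_mul, mul_right_comm, h4, zero_mul]
    | add a b ha hb => rw [map_add, map_add, add_sub_add_comm, add_mul, ha, hb, add_zero]
  have hinv : sD' e = tD' e := by
    have h1 := huniv s s' h.gs hχs (fun ρ₁ ρ₂ => h.exts ρ₁ ρ₂) (tD' e)
    have h2 := huniv t t' h.gt hχt (fun ρ₁ ρ₂ => h.extt ρ₁ ρ₂) (sD' e)
    rw [hcomm t t' hχt, hψe, map_one, map_one, sub_mul, one_mul, sub_eq_zero] at h1
    rw [hcomm s s' hχs, hψe, map_one, map_one, sub_mul, one_mul, sub_eq_zero, mul_comm] at h2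
    exact h1.symm.trans h2
  -- descend to the invariants
  obtain ⟨hιinj, hιrange⟩ := exists_of_map_eq K'.val s' t' Subtype.val_injective
    (fun a => ⟨fun ha => ⟨⟨a, ha⟩, rfl⟩, fun ⟨k, hk⟩ => hk ▸ k.2⟩) D
  let ιD := Algebra.TensorProduct.map K'.val (AlgHom.id K D)
  obtain ⟨e₀, he₀⟩ := hιrange e hinv
  have hιD : ∀ k r, ιD (k ⊗ₜ r) = (k : A') ⊗ₜ r := fun k r => Algebra.TensorProduct.map_tmul ..
  obtain ⟨hDinj, hDrange⟩ := exists_of_map_eq (Algebra.ofId K A) s t h.inj (fun a => h.inv_iff a) D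
  let inD : D →ₐ[K] A ⊗[K] D := Algebra.TensorProduct.includeRight
  have hinD : ∀ w : K ⊗[K] D, Algebra.TensorProduct.map (Algebra.ofId K A) (AlgHom.id K D) w =
      inD (Algebra.TensorProduct.lid K D w) := fun w => by
    induction w using TensorProduct.induction_on with
    | zero => simp
    | tmul k r =>
      rw [Algebra.TensorProduct.map_tmul, Algebra.TensorProduct.lid_tmul, map_smul]
      simp [inD, TensorProduct.smul_tmul', Algebra.ofId_apply, Algebra.algebraMap_eq_smul_one]
    | add a b ha hb => simp only [map_add, ha, hb]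
  have hinDinj : Function.Injective inD := fun x y hxy => by
    have := @hDinj ((Algebra.TensorProduct.lid K D).symm x) ((Algebra.TensorProduct.lid K D).symm y)
      (by rw [hinD, hinD, AlgEquiv.apply_symm_apply, AlgEquiv.apply_symm_apply, hxy])
    exact (Algebra.TensorProduct.lid K D).symm.injective this
  have hmemD : ∀ k : K', ∃ r, inD r = φ k := fun k => by
    obtain ⟨w, hw⟩ := hDrange (φ k) (by rw [← hχs, ← hχt]; exact congrArg χ k.2)
    exact ⟨_, (hinD w).symm.trans hw⟩
  choose γ₀ hγ₀ using hmemD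
  let γ : K' →ₐ[K] D :=
    { toFun := γ₀
      map_one' := hinDinj (by rw [hγ₀, map_one]; exact map_one φ)
      map_mul' := fun a b => hinDinj (by rw [hγ₀, map_mul, hγ₀, hγ₀]; exact map_mul φ _ _)
      map_zero' := hinDinj (by rw [hγ₀, map_zero]; exact map_zero φ)
      map_add' := fun a b => hinDinj (by rw [hγ₀, map_add, hγ₀, hγ₀]; exact map_add φ _ _)
      commutes' := fun k => hinDinj (by
        rw [hγ₀, AlgHom.commutes]
        exact φ.commutes k) }
  have hγ : ∀ k : K', φ k = (1 : A) ⊗ₜ γ k := fun k => (hγ₀ k).symm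
  let β : K' ⊗[K] D →ₐ[K] D := Algebra.TensorProduct.lift γ (AlgHom.id K D) fun _ _ => .all _ _
  have hβ : ∀ w, inD (β w) = ψ (ιD w) := fun w => by
    induction w using TensorProduct.induction_on with
    | zero => simp
    | tmul k r =>
      rw [hιD, hψ, hγ, show β (k ⊗ₜ r) = γ k * r from Algebra.TensorProduct.lift_tmul γ _ (fun _ _ => .all _ _) k r,
        map_mul]
      rfl
    | add a b ha hb => simp only [map_add, ha, hb]
  have hβe : β e₀ = 1 := hinDinj (by rw [hβ, show ιD e₀ = e from he₀, hψe, map_one])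
  have hidem : IsIdempotentElem e₀ := hιinj (by
    show ιD (e₀ * e₀) = ιD e₀
    have := hkill e
    rw [hψe, map_one, sub_mul, one_mul, sub_eq_zero] at this
    rw [map_mul, show ιD e₀ = e from he₀]
    exact this)
  have hβsurj : Function.Surjective β := fun r =>
    ⟨1 ⊗ₜ r, (Algebra.TensorProduct.lift_tmul γ _ (fun _ _ => .all _ _) 1 r).trans (by rw [map_one, one_mul]; rfl)⟩
  have hβker : RingHom.ker β.toRingHom = Ideal.span {1 - e₀} := by
    refine le_antisymm (fun w hw => ?_) ((Ideal.span_singleton_le_iff_mem _).2 ?_)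
    · have h0 : w * e₀ = 0 := hιinj (by
        show ιD (w * e₀) = ιD 0
        rw [map_mul, map_zero, show ιD e₀ = e from he₀]
        have := hkill (ιD w)
        rwa [← hβ, show β w = 0 from hw, map_zero, map_zero, sub_zero] at this)
      exact Ideal.mem_span_singleton'.2 ⟨w, by rw [mul_sub, mul_one, h0, sub_zero]⟩
    · show β (1 - e₀) = 0
      rw [map_sub, map_one, hβe, sub_self]
  have hγet : γ.toRingHom.Etale := by
    let : Algebra (K' ⊗[K] D) D := β.toRingHom.toAlgebra
    have : IsLocalization.Away e₀ D := IsLocalization.away_of_isIdempotentElem hidem hβker hβsurj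
    have : Algebra.Etale (K' ⊗[K] D) D := Algebra.Etale.of_isLocalizationAway e₀
    let : Algebra K' D := γ.toRingHom.toAlgebra
    have : IsScalarTower K' (K' ⊗[K] D) D := ⟨fun k w r => by
      show β (k • w) * r = γ k * (β w * r)
      have hsm : k • w = (k ⊗ₜ[K] (1 : D)) * w := by
        induction w using TensorProduct.induction_on with
        | zero => simp
        | tmul x y =>
          rw [TensorProduct.smul_tmul', Algebra.TensorProduct.tmul_mul_tmul, one_mul, smul_eq_mul]
        | add a b ha hb => simp only [smul_add, mul_add, ha, hb]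
      rw [hsm, map_mul, Algebra.TensorProduct.lift_tmul, map_one, mul_one, mul_assoc]⟩
    have : Algebra.Etale K' D := Algebra.Etale.comp K' (K' ⊗[K] D) D
    exact RingHom.etale_algebraMap.2 this
  refine ⟨D, inferInstance, inferInstance, inferInstance, γ, ⟨RingHom.ker τ, RingHom.ker_isPrime _⟩, φ, hγet,
    ?_, hφf, hγ, ?_⟩
  · ext k
    show τ (γ k) = 0 ↔ _
    have h1 := hlift k.1
    rw [hγ, Algebra.TensorProduct.lift_tmul, map_one, one_mul] at h1
    rw [h1, hφ₀, ← hQ]
    rfl
  · intro θ hθ x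
    letI := γ.toRingHom.toAlgebra
    have hKD : ∀ k r, (γ k * r : D) = (k : K') • r := fun k r => rfl
    let π : A' ⊗[K] D →+ A' ⊗[K'] D := TensorProduct.liftAddHom
      { toFun := fun a => { toFun := fun r => a ⊗ₜ r, map_zero' := TensorProduct.tmul_zero _ _,
                            map_add' := fun r r' => TensorProduct.tmul_add _ _ _ }
        map_zero' := by ext r; exact TensorProduct.zero_tmul _ _
        map_add' := fun a b => by ext r; exact TensorProduct.add_tmul _ _ _ }
      (fun k a r => by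
        show (k • a) ⊗ₜ[K'] r = a ⊗ₜ[K'] (k • r)
        rw [← algebraMap_smul K' k a, TensorProduct.smul_tmul]
        congr 1
        rw [← hKD, AlgHom.commutes, Algebra.smul_def])
    have hπ : ∀ a r, π (a ⊗ₜ r) = a ⊗ₜ r := fun a r => rfl
    have hπj : ∀ z, π (jA z) = θ z := fun z => by
      induction z using TensorProduct.induction_on with
      | zero => simp
      | tmul a r =>
        rw [hθ]
        show π (algebraMap A A' a ⊗ₜ[K] r) = _
        rw [hπ]
      | add a b ha hb => simp only [map_add, ha, hb]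
    have hπe : ∀ (w : K' ⊗[K] D) (y : A') (r : D), π (ιD w * (y ⊗ₜ r)) = y ⊗ₜ (β w * r) := fun w y r => by
      induction w using TensorProduct.induction_on with
      | zero => simp
      | tmul k r' =>
        rw [hιD, Algebra.TensorProduct.tmul_mul_tmul, hπ,
          show β (k ⊗ₜ r') = γ k * r' from Algebra.TensorProduct.lift_tmul γ _ (fun _ _ => .all _ _) k r',
          show (k : A') * y = k • y from rfl, TensorProduct.smul_tmul, ← hKD, mul_assoc]
      | add a b ha hb => simp only [map_add, add_mul, ha, hb, TensorProduct.tmul_add]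
    have hπe' : ∀ z, π (ιD e₀ * z) = π z := fun z => by
      induction z using TensorProduct.induction_on with
      | zero => simp
      | tmul y r => rw [hπe, hβe, one_mul, hπ]
      | add a b ha hb => simp only [map_add, mul_add, ha, hb]
    rw [← hπj, ← hπe', ← hπ, ← hπe' (x ⊗ₜ 1), show ιD e₀ = e from he₀]
    have := hkill (x ⊗ₜ 1)
    rw [hψ, ← Algebra.TensorProduct.one_def, mul_one, sub_mul, sub_eq_zero] at this
    rw [mul_comm e, ← this, mul_comm]

end Groth.Agent.GrpdEtQuot
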