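import Groth.Agent.GrpdEtQuot.Global
import Groth.Agent.GrpdLib.Quot
import Groth.Agent.GrpdLib.StabTorsor

/-!
# Etale cartesian morphisms of affine groupoids give cartesian etale maps of quotients
-/

set_option autoImplicit false
set_option maxHeartbeats 800000
set_option backward.isDefEq.respectTransparency false
set_option backward.isDefEq.respectTransparency.types false

universe u

open CategoryTheory CategoryTheory.Limits AlgebraicGeometry Grpd
open scoped TensorProduct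

namespace Groth.Agent.GrpdEtQuot

theorem appTop_comm {X₁ Y₁ X₂ Y₂ : Scheme.{u}} (a : X₁ ⟶ Y₁) (b : Y₁ ⟶ Y₂) (c : X₁ ⟶ X₂) (e : X₂ ⟶ Y₂)
    (w : a ≫ b = c ≫ e) (x : Γ(Y₂, ⊤)) : a.appTop.hom (b.appTop.hom x) = c.appTop.hom (e.appTop.hom x) := by
  have h := congrArg Scheme.Hom.appTop w
  rw [Scheme.Hom.comp_appTop, Scheme.Hom.comp_appTop] at h
  exact congrArg (fun φ : Γ(Y₂, ⊤) ⟶ Γ(X₁, ⊤) => φ.hom x) h

/-- Maps out of a pushout of rings. -/
theorem exists_desc {P X Y Z : CommRingCat.{u}} {f : Z ⟶ X} {g : Z ⟶ Y} {inl : X ⟶ P} {inr : Y ⟶ P}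
    (hp : IsPushout f g inl inr) (T : Type u) [CommRing T] (u : X →+* T) (v : Y →+* T)
    (huv : ∀ z, u (f.hom z) = v (g.hom z)) :
    ∃ w : P →+* T, (∀ x, w (inl.hom x) = u x) ∧ ∀ y, w (inr.hom y) = v y := by
  have hw : f ≫ CommRingCat.ofHom u = g ≫ CommRingCat.ofHom v := CommRingCat.hom_ext (RingHom.ext huv)
  exact ⟨(hp.desc _ _ hw).hom, fun x => congrArg (fun φ : X ⟶ CommRingCat.of T => φ.hom x) (hp.inl_desc _ _ hw),
    fun y => congrArg (fun φ : Y ⟶ CommRingCat.of T => φ.hom y) (hp.inr_desc _ _ hw)⟩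

theorem ext_desc {P X Y Z : CommRingCat.{u}} {f : Z ⟶ X} {g : Z ⟶ Y} {inl : X ⟶ P} {inr : Y ⟶ P}
    (hp : IsPushout f g inl inr) (T : Type u) [CommRing T] (w w' : P →+* T)
    (hl : ∀ x, w (inl.hom x) = w' (inl.hom x)) (hr : ∀ y, w (inr.hom y) = w' (inr.hom y)) : w = w' := by
  have h1 : inl ≫ CommRingCat.ofHom w = inl ≫ CommRingCat.ofHom w' := CommRingCat.hom_ext (RingHom.ext hl)
  have h2 : inr ≫ CommRingCat.ofHom w = inr ≫ CommRingCat.ofHom w' := CommRingCat.hom_ext (RingHom.ext hr)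
  exact congrArg CommRingCat.Hom.hom (hp.hom_ext h1 h2)

/-- The quotient map of an affine groupoid. -/
theorem toQuot_eq {S : Scheme.{u}} (G : GroupoidScheme S) [IsAffine G.U] :
    G.toQuot = G.U.isoSpec.hom ≫ Spec.map (CommRingCat.ofHom G.invariants.subtype) := rfl

variable {S : Scheme.{u}} {G' G : GroupoidScheme S} (f : GroupoidScheme.Hom G' G)

/-- An arrow of the source over a loop is a loop when stabilizers are cartesian. -/
theorem t_eq_s_of_stab (hs : IsPullback f.fR G'.s G.s f.fU)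
    (hstab : ∃ g : G'.stabilizer ⟶ G.stabilizer, g ≫ pullback.fst G.j G.diag = pullback.fst G'.j G'.diag ≫ f.fR ∧
      IsPullback g G'.stabilizerToU G.stabilizerToU f.fU)
    {T : Scheme.{u}} (a : T ⟶ G'.R) (h : a ≫ G'.t ≫ f.fU = a ≫ G'.s ≫ f.fU) : a ≫ G'.t = a ≫ G'.s := by
  obtain ⟨gst, hgι, hcart⟩ := hstab
  have h1 : (a ≫ f.fR) ≫ G.t = (a ≫ f.fR) ≫ G.s := by
    rw [Category.assoc, Category.assoc, f.comm_t, f.comm_s, h]
  obtain ⟨l, hl1, hl2⟩ := GrpdLib.exists_stab_lift G (a ≫ f.fR) h1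
  have hw : l ≫ G.stabilizerToU = (a ≫ G'.s) ≫ f.fU := by
    rw [hl2, h1, Category.assoc, Category.assoc, f.comm_s]
  let m := hcart.lift l (a ≫ G'.s) hw
  have ha : m ≫ GrpdLib.stabι G' = a := by
    refine hs.hom_ext ?_ ?_
    · rw [Category.assoc, show GrpdLib.stabι G' ≫ f.fR = gst ≫ GrpdLib.stabι G from hgι.symm,
        ← Category.assoc, hcart.lift_fst, hl1]
    · rw [Category.assoc, GrpdLib.stabι_s, hcart.lift_snd]
  rw [← ha, Category.assoc, Category.assoc, GrpdLib.stabι_t, GrpdLib.stabι_s]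

theorem main [IsAffine G.U] [IsAffine G.R] [IsAffine G'.U] [IsAffine G'.R]
    [IsFinite G.s] [Flat G.s] [LocallyOfFinitePresentation G.s]
    [IsFinite G'.s] [Flat G'.s] [LocallyOfFinitePresentation G'.s]
    (hs : IsPullback f.fR G'.s G.s f.fU) (ht : IsPullback f.fR G'.t G.t f.fU)
    (hstab : ∃ g : G'.stabilizer ⟶ G.stabilizer, g ≫ pullback.fst G.j G.diag = pullback.fst G'.j G'.diag ≫ f.fR ∧
      IsPullback g G'.stabilizerToU G.stabilizerToU f.fU) [Etale f.fU] :
    ∃ γ : G.invariants →+* G'.invariants,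
      (∀ k, (γ k).1 = f.fU.appTop.hom k.1) ∧
      Etale (Spec.map (CommRingCat.ofHom γ)) ∧
      IsPushout (CommRingCat.ofHom γ) (CommRingCat.ofHom G.invariants.subtype)
        (CommRingCat.ofHom G'.invariants.subtype) f.fU.appTop := by
  classical
  let D := GrpdLib.affData G
  let D' := GrpdLib.affData G'
  let fA : Γ(G.U, ⊤) →+* Γ(G'.U, ⊤) := f.fU.appTop.hom
  let gB : Γ(G.R, ⊤) →+* Γ(G'.R, ⊤) := f.fR.appTop.hom
  have cs : ∀ x, gB (D.s x) = D'.s (fA x) := fun x => appTop_comm f.fR G.s G'.s f.fU f.comm_s x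
  have ct : ∀ x, gB (D.t x) = D'.t (fA x) := fun x => appTop_comm f.fR G.t G'.t f.fU f.comm_t x
  -- the algebra structures
  let K := G.invariants
  let : Algebra K Γ(G'.U, ⊤) := (fA.comp G.invariants.subtype).toAlgebra
  let : Algebra Γ(G.U, ⊤) Γ(G'.U, ⊤) := fA.toAlgebra
  have : IsScalarTower K Γ(G.U, ⊤) Γ(G'.U, ⊤) := .of_algebraMap_eq fun k => rfl
  let : Algebra K Γ(G.R, ⊤) := (D.s.comp G.invariants.subtype).toAlgebra
  let : Algebra K Γ(G'.R, ⊤) := (D'.s.comp (fA.comp G.invariants.subtype)).toAlgebra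
  let sA : Γ(G.U, ⊤) →ₐ[K] Γ(G.R, ⊤) := { D.s with commutes' := fun k => rfl }
  let tA : Γ(G.U, ⊤) →ₐ[K] Γ(G.R, ⊤) := { D.t with commutes' := fun k => k.2.symm }
  let sA' : Γ(G'.U, ⊤) →ₐ[K] Γ(G'.R, ⊤) := { D'.s with commutes' := fun k => rfl }
  have htA' : ∀ k : K, D'.t (fA k.1) = D'.s (fA k.1) := fun k => by
    rw [← ct, ← cs]
    exact congrArg gB k.2.symm
  let tA' : Γ(G'.U, ⊤) →ₐ[K] Γ(G'.R, ⊤) := { D'.t with commutes' := fun k => htA' k }
  let gA : Γ(G.R, ⊤) →ₐ[K] Γ(G'.R, ⊤) := { gB with commutes' := fun k => cs k.1 }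
  have hps := isPushout_appTop_of_isPullback hs
  have hpt := isPushout_appTop_of_isPullback ht
  obtain ⟨n, ⟨F⟩⟩ := GrpdLib.exists_frame_affData G
  have data : CartData sA tA sA' tA' gA := by
    refine
      { gs := fun a => (cs a).symm
        gt := fun a => (ct a).symm
        inj := Subtype.val_injective
        inv_iff := fun a => ⟨fun ha => ⟨⟨a, ha⟩, rfl⟩, fun ⟨k, hk⟩ => hk ▸ k.2⟩
        intA := ⟨fun a => GrpdLib.AffData.isIntegralElem F G.invariants (fun x hx => hx) a⟩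
        sfin := G.s.finite_appTop
        sqs := ?_, sqt := ?_, exts := ?_, extt := ?_, comp := ?_, inv := ?_, refl := ?_, loop := ?_, trans := ?_ }
    · intro T _ _ φ ρ hh
      obtain ⟨w, hw1, hw2⟩ := exists_desc hps T ρ.toRingHom φ.toRingHom fun z => (hh z).symm
      exact ⟨{ w with commutes' := fun k => (hw2 _).trans (φ.commutes k) }, AlgHom.ext hw2, AlgHom.ext hw1⟩
    · intro T _ _ φ ρ hh
      obtain ⟨w, hw1, hw2⟩ := exists_desc hpt T ρ.toRingHom φ.toRingHom fun z => (hh z).symm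
      have hw3 : ∀ k : K, w (D'.s (fA k.1)) = algebraMap K T k := fun k => by
        rw [← cs]
        exact (hw1 _).trans (ρ.commutes k)
      exact ⟨{ w with commutes' := fun k => hw3 k }, AlgHom.ext hw2, AlgHom.ext hw1⟩
    · intro T _ _ ρ₁ ρ₂ h1 h2
      exact AlgHom.coe_ringHom_injective (ext_desc hps T _ _ (fun x => DFunLike.congr_fun h2 x) fun y => DFunLike.congr_fun h1 y)
    · intro T _ _ ρ₁ ρ₂ h1 h2
      exact AlgHom.coe_ringHom_injective (ext_desc hpt T _ _ (fun x => DFunLike.congr_fun h2 x) fun y => DFunLike.congr_fun h1 y)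
    · intro T _ _ ρ₁ ρ₂ hh
      obtain ⟨w, hw1, hw2⟩ := exists_desc D'.sq₁ T ρ₂.toRingHom ρ₁.toRingHom fun z => (DFunLike.congr_fun hh z).symm
      have hms : ∀ z, w (D'.m (D'.s z)) = ρ₂ (D'.s z) := fun z => by
        have := congrArg (fun φ : CommRingCat.of D'.A ⟶ CommRingCat.of D'.C => w (φ.hom z)) D'.sq₂.w
        exact this.symm.trans (hw1 _)
      exact ⟨{ w.comp D'.m with commutes' := fun k => (hms _).trans (ρ₂.commutes k) },
        AlgHom.ext fun z => (congrArg w (D'.m_t_apply z)).trans (hw2 _), AlgHom.ext hms⟩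
    · intro T _ _ ρ
      have hit : ∀ z, G'.i.appTop.hom (D'.t z) = D'.s z := fun z => by
        have h := congrArg Scheme.Hom.appTop G'.i_t
        rw [Scheme.Hom.comp_appTop] at h
        exact congrArg (fun φ : Γ(G'.U, ⊤) ⟶ Γ(G'.R, ⊤) => φ.hom z) h
      have his : ∀ z, G'.i.appTop.hom (D'.s z) = D'.t z := fun z => by
        have h := congrArg Scheme.Hom.appTop G'.i_s
        rw [Scheme.Hom.comp_appTop] at h
        exact congrArg (fun φ : Γ(G'.U, ⊤) ⟶ Γ(G'.R, ⊤) => φ.hom z) h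
      exact ⟨{ ρ.toRingHom.comp G'.i.appTop.hom with
          commutes' := fun k => (congrArg ρ (his _)).trans ((congrArg ρ (tA'.commutes k)).trans (ρ.commutes k)) },
        AlgHom.ext fun z => congrArg ρ (hit z), AlgHom.ext fun z => congrArg ρ (his z)⟩
    · intro T _ _ φ
      exact ⟨{ φ.toRingHom.comp D'.e with
          commutes' := fun k => (congrArg φ (D'.e_s_apply _)).trans (φ.commutes k) },
        AlgHom.ext fun z => congrArg φ (D'.e_t_apply z), AlgHom.ext fun z => congrArg φ (D'.e_s_apply z)⟩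
    · intro T _ _ ρ hh
      let a : Spec (CommRingCat.of T) ⟶ G'.R := GrpdLib.ofPointHom (K := CommRingCat.of T) ρ.toRingHom
      have h1 : a ≫ G'.t ≫ f.fU = a ≫ G'.s ≫ f.fU := by
        apply GrpdLib.pointHom_injective
        rw [← Category.assoc, ← Category.assoc, GrpdLib.pointHom_comp, GrpdLib.pointHom_comp, GrpdLib.pointHom_comp,
          GrpdLib.pointHom_comp, GrpdLib.pointHom_ofPointHom]
        exact RingHom.ext hh
      have h2 := congrArg GrpdLib.pointHom (t_eq_s_of_stab f hs hstab a h1)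
      rw [GrpdLib.pointHom_comp, GrpdLib.pointHom_comp, GrpdLib.pointHom_ofPointHom] at h2
      exact AlgHom.coe_ringHom_injective h2
    · intro T _ _ _ x₀ x₁
      obtain ⟨χ, h1, h2⟩ := D.exists_point F G.s.finite_appTop x₀.toRingHom x₁.toRingHom fun a ha =>
        (x₀.commutes ⟨a, ha⟩).trans (x₁.commutes ⟨a, ha⟩).symm
      exact ⟨{ χ with commutes' := fun k => (DFunLike.congr_fun h2 k.1).trans (x₁.commutes k) },
        AlgHom.ext fun z => DFunLike.congr_fun h1 z, AlgHom.ext fun z => DFunLike.congr_fun h2 z⟩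
  have : Algebra.Etale Γ(G.U, ⊤) Γ(G'.U, ⊤) :=
    RingHom.etale_algebraMap.1 ((HasRingHomProperty.iff_of_isAffine (P := @Etale)).1 ‹Etale f.fU›)
  set K' := AlgHom.equalizer sA' tA'
  have hlift : ∀ q : PrimeSpectrum K', ∃ Q : PrimeSpectrum Γ(G'.U, ⊤),
      Q.asIdeal.comap K'.val.toRingHom = q.asIdeal := fun q => by
    obtain ⟨Q, hQ⟩ := GrpdLib.surjective_comap_invariants (G := G') (q : PrimeSpectrum G'.invariants)
    exact ⟨Q, congrArg PrimeSpectrum.asIdeal hQ⟩
  let γ : K →+* G'.invariants := (algebraMap K K' : K →+* G'.invariants)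
  refine ⟨γ, fun k => rfl, data.etale_invariants hlift, ?_⟩
  let α : K' ⊗[K] Γ(G.U, ⊤) →ₐ[K] Γ(G'.U, ⊤) :=
    Algebra.TensorProduct.lift K'.val (IsScalarTower.toAlgHom K Γ(G.U, ⊤) Γ(G'.U, ⊤)) fun _ _ => .all _ _
  let e : K' ⊗[K] Γ(G.U, ⊤) ≃+* Γ(G'.U, ⊤) := RingEquiv.ofBijective α (data.bijective_tensor hlift)
  refine (CommRingCat.isPushout_tensorProduct K K' Γ(G.U, ⊤)).of_iso (Iso.refl _) (Iso.refl _) (Iso.refl _)
    e.toCommRingCatIso ?_ ?_ ?_ ?_
  · simp; rfl
  · simp; rfl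
  · ext k
    show α (k ⊗ₜ 1) = k.1
    exact (Algebra.TensorProduct.lift_tmul K'.val _ (fun _ _ => .all _ _) k 1).trans (by rw [map_one, mul_one]; rfl)
  · ext a
    show α (1 ⊗ₜ a) = fA a
    exact (Algebra.TensorProduct.lift_tmul K'.val _ (fun _ _ => .all _ _) 1 a).trans (by rw [map_one, one_mul]; rfl)

/-- The morphism of quotients compatible with the morphism of groupoids is the map of invariants. -/
theorem eq_specMap [IsAffine G.U] [IsAffine G'.U] (γ : G.invariants →+* G'.invariants)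
    (hγ : ∀ k, (γ k).1 = f.fU.appTop.hom k.1)
    (g : Spec (CommRingCat.of G'.invariants) ⟶ Spec (CommRingCat.of G.invariants))
    (hg : G'.toQuot ≫ g = f.fU ≫ G.toQuot) : g = Spec.map (CommRingCat.ofHom γ) := by
  obtain ⟨φ, rfl⟩ := Spec.map_surjective g
  congr 1
  rw [toQuot_eq, toQuot_eq, Category.assoc,
    ← Category.assoc f.fU, show f.fU ≫ G.U.isoSpec.hom = G'.U.isoSpec.hom ≫ Spec.map f.fU.appTop by
      simp only [Scheme.isoSpec_hom, Scheme.toSpecΓ_naturality],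
    Category.assoc, cancel_epi, ← Spec.map_comp, ← Spec.map_comp] at hg
  have h := Spec.map_injective hg
  ext k
  have h2 := congrArg (fun ψ : CommRingCat.of G.invariants ⟶ Γ(G'.U, ⊤) => ψ.hom k) h
  exact h2.trans (hγ k).symm

end Groth.Agent.GrpdEtQuot
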