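import Groth.Agent.GrpdEtQuot.Data
import Groth.Agent.EtFound.IntegralCore

/-!
# The invariant section over the strict henselization
-/

set_option autoImplicit false
set_option maxHeartbeats 1000000
set_option backward.isDefEq.respectTransparency.types false

universe u

open scoped TensorProduct
open IsLocalRing

namespace Groth.Agent.GrpdEtQuot

theorem isIntegral_tensor (K A R : Type u) [CommRing K] [CommRing A] [Algebra K A] [Algebra.IsIntegral K A]
    [CommRing R] [Algebra K R] [Algebra R (A ⊗[K] R)] [IsScalarTower K R (A ⊗[K] R)]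
    (h : ∀ r : R, algebraMap R (A ⊗[K] R) r = 1 ⊗ₜ r) : Algebra.IsIntegral R (A ⊗[K] R) :=
  ⟨fun z => by
    induction z using TensorProduct.induction_on with
    | zero => exact isIntegral_zero
    | add a b ha hb => exact ha.add hb
    | tmul a r =>
      have h1 : IsIntegral R (a ⊗ₜ[K] (1 : R) : A ⊗[K] R) :=
        ((Algebra.IsIntegral.isIntegral (R := K) a).map
          (Algebra.TensorProduct.includeLeft (R := K) (S := K) (A := A) (B := R))).tower_top
      have h2 : IsIntegral R (algebraMap R (A ⊗[K] R) r) := isIntegral_algebraMap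
      have he : (a ⊗ₜ[K] r : A ⊗[K] R) = a ⊗ₜ[K] (1 : R) * algebraMap R (A ⊗[K] R) r := by
        rw [h, Algebra.TensorProduct.tmul_mul_tmul, mul_one, one_mul]
      rw [he]; exact h1.mul h2⟩

variable {K A A' B B' : Type u} [CommRing K] [CommRing A] [Algebra K A] [CommRing A'] [Algebra K A']
  [Algebra A A'] [IsScalarTower K A A'] [CommRing B] [Algebra K B] [CommRing B'] [Algebra K B']
  {s t : A →ₐ[K] B} {s' t' : A' →ₐ[K] B'} {g : B →ₐ[K] B'}

variable {Ω : Type u} [Field Ω] [IsAlgClosed Ω] [Algebra K Ω]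

theorem CartData.isIntegral_B (h : CartData s t s' t' g) : Algebra.IsIntegral K B := by
  let : Algebra A B := s.toRingHom.toAlgebra
  have : IsScalarTower K A B := .of_algebraMap_eq fun k => (s.commutes k).symm
  have : Module.Finite A B := h.sfin
  have := h.intA
  exact Algebra.IsIntegral.trans A

/-- The orbit of a point of the source. -/
def orbit (s' t' : A' →ₐ[K] B') (φ₀ : A' →ₐ[K] Ω) : Set (A' →ₐ[K] Ω) :=
  {φ | ∃ ρ : B' →ₐ[K] Ω, ρ.comp s' = φ₀ ∧ ρ.comp t' = φ}

theorem CartData.mem_orbit_self (h : CartData s t s' t' g) (φ₀ : A' →ₐ[K] Ω) : φ₀ ∈ orbit s' t' φ₀ := by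
  obtain ⟨ρ, h1, h2⟩ := h.refl φ₀
  exact ⟨ρ, h2, h1⟩

theorem CartData.mem_orbit_of_arrow (h : CartData s t s' t' g) {φ₀ : A' →ₐ[K] Ω} (ρ : B' →ₐ[K] Ω)
    (hρ : ρ.comp s' ∈ orbit s' t' φ₀) : ρ.comp t' ∈ orbit s' t' φ₀ := by
  obtain ⟨ρ₀, h1, h2⟩ := hρ
  obtain ⟨ρ', h3, h4⟩ := h.comp ρ ρ₀ h2.symm
  exact ⟨ρ', h4.trans h1, h3⟩

theorem CartData.orbit_unique (h : CartData s t s' t' g) {φ₀ φ φ' : A' →ₐ[K] Ω} (hφ : φ ∈ orbit s' t' φ₀)
    (hφ' : φ' ∈ orbit s' t' φ₀) (he : ∀ a, φ (algebraMap A A' a) = φ' (algebraMap A A' a)) : φ = φ' := by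
  obtain ⟨ρ₁, h1, h2⟩ := hφ
  obtain ⟨ρ₂, h3, h4⟩ := hφ'
  obtain ⟨i₁, h5, h6⟩ := h.inv ρ₁
  obtain ⟨a, h7, h8⟩ := h.comp ρ₂ i₁ (h3.trans (h1.symm.trans h5.symm))
  have ht : a.comp t' = φ' := h7.trans h4
  have hs : a.comp s' = φ := h8.trans (h6.trans h2)
  have := h.loop a fun x => (DFunLike.congr_fun ht _).trans ((he x).symm.trans (DFunLike.congr_fun hs _).symm)
  rw [← ht, ← hs, this]

theorem CartData.orbit_exists (h : CartData s t s' t' g) (φ₀ : A' →ₐ[K] Ω) (ξ : A →ₐ[K] Ω) :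
    ∃ φ ∈ orbit s' t' φ₀, ∀ a, φ (algebraMap A A' a) = ξ a := by
  obtain ⟨χ, hχt, hχs⟩ := h.trans ξ (φ₀.comp (IsScalarTower.toAlgHom K A A'))
  obtain ⟨ρ, hρs, hρg⟩ := h.sqs φ₀ χ fun a => (DFunLike.congr_fun hχs a).symm
  refine ⟨_, ⟨ρ, hρs, rfl⟩, fun a => ?_⟩
  rw [AlgHom.comp_apply, h.gt, ← AlgHom.comp_apply, hρg, ← hχt]
  rfl

theorem CartData.finite_points (h : CartData s t s' t' g) [Algebra.Etale A A'] (φ₀ : A' →ₐ[K] Ω) :
    Finite (A' →ₐ[K] Ω) := by
  let ξ₀ : A →ₐ[K] Ω := φ₀.comp (IsScalarTower.toAlgHom K A A')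
  have hξ : Finite (A →ₐ[K] Ω) := by
    let : Algebra A B := s.toRingHom.toAlgebra
    let : Algebra A Ω := ξ₀.toRingHom.toAlgebra
    have : IsScalarTower K A B := .of_algebraMap_eq fun k => (s.commutes k).symm
    have : IsScalarTower K A Ω := .of_algebraMap_eq fun k => (ξ₀.commutes k).symm
    have : Module.Finite A B := h.sfin
    have : Finite (B →ₐ[A] Ω) := finite_algHom
    refine Finite.of_surjective (fun χ : B →ₐ[A] Ω => (χ.restrictScalars K).comp t) fun ξ => ?_
    obtain ⟨χ, hχt, hχs⟩ := h.trans ξ ξ₀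
    exact ⟨{ χ with commutes' := fun a => DFunLike.congr_fun hχs a }, hχt⟩
  have hfib : ∀ ξ : A →ₐ[K] Ω, Finite {φ : A' →ₐ[K] Ω // φ.comp (IsScalarTower.toAlgHom K A A') = ξ} := by
    intro ξ
    let : Algebra A Ω := ξ.toRingHom.toAlgebra
    have : Module.Finite Ω (Ω ⊗[A] A') := Algebra.FormallyUnramified.finite_of_free _ _
    have : Finite (A' →ₐ[A] Ω) := finite_algHom
    refine Finite.of_injective
      (fun φ => ({ φ.1 with commutes' := fun a => DFunLike.congr_fun φ.2 a } : A' →ₐ[A] Ω)) fun φ φ' e => ?_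
    exact Subtype.ext (AlgHom.ext fun x => DFunLike.congr_fun e x)
  exact Finite.of_equiv _ (Equiv.sigmaFiberEquiv fun φ : A' →ₐ[K] Ω => φ.comp (IsScalarTower.toAlgHom K A A'))

/-- An orbit valued section of an etale algebra over an integral algebra on a strictly henselian ring. -/
theorem CartData.exists_orbit_section (h : CartData s t s' t' g) [Algebra.Etale A A'] (φ₀ : A' →ₐ[K] Ω)
    (R : Type u) [CommRing R] [HenselianLocalRing R] [IsSepClosed (ResidueField R)] [Algebra K R]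
    [Algebra R Ω] [IsScalarTower K R Ω] (hker : RingHom.ker (algebraMap R Ω) = maximalIdeal R)
    (AR : Type u) [CommRing AR] [Algebra K AR] [Algebra R AR] [Algebra A AR] [IsScalarTower K A AR]
    [IsScalarTower K R AR] [Algebra.IsIntegral R AR]
    (pA : ∀ ξ : A →ₐ[K] Ω, ∃ Θ : AR →ₐ[R] Ω, ∀ a, Θ (algebraMap A AR a) = ξ a)
    (extA : ∀ Θ Θ' : AR →ₐ[R] Ω, (∀ a, Θ (algebraMap A AR a) = Θ' (algebraMap A AR a)) → Θ = Θ') :
    ∃ φR : A' →ₐ[A] AR, ∀ Θ : AR →ₐ[R] Ω, ∃ φ ∈ orbit s' t' φ₀, ∀ x, Θ (φR x) = φ x := by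
  classical
  let C := AR ⊗[A] A'
  let incA : AR →ₐ[R] C := IsScalarTower.toAlgHom R AR C
  let inc : A' →ₐ[A] C := Algebra.TensorProduct.includeRight
  have hbal : ∀ a : A, algebraMap AR C (algebraMap A AR a) = inc (algebraMap A A' a) := fun a =>
    (IsScalarTower.algebraMap_apply A AR C a).symm.trans (inc.commutes a).symm
  have hrest : ∀ (Θ : AR →ₐ[R] Ω) (k : K), Θ (algebraMap K AR k) = algebraMap K Ω k := fun Θ k =>
    (Θ.restrictScalars K).commutes k
  -- extension of points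
  have hexC : ∀ φ : A' →ₐ[K] Ω, ∃ Θ : C →ₐ[R] Ω, ∀ x, Θ (inc x) = φ x := fun φ => by
    obtain ⟨Θ₀, hΘ₀⟩ := pA (φ.comp (IsScalarTower.toAlgHom K A A'))
    let : Algebra A Ω := (φ.comp (IsScalarTower.toAlgHom K A A')).toRingHom.toAlgebra
    let u : AR →ₐ[A] Ω := { Θ₀.toRingHom with commutes' := fun a => hΘ₀ a }
    let v : A' →ₐ[A] Ω := { φ.toRingHom with commutes' := fun a => rfl }
    refine ⟨{ (Algebra.TensorProduct.lift u v fun _ _ => .all _ _).toRingHom with
      commutes' := fun r => ?_ }, fun x => ?_⟩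
    · show Algebra.TensorProduct.lift u v (fun _ _ => .all _ _) (algebraMap R C r) = _
      rw [IsScalarTower.algebraMap_apply R AR C, Algebra.TensorProduct.algebraMap_apply,
        Algebra.TensorProduct.lift_tmul, map_one, mul_one]
      exact Θ₀.commutes r
    · exact (Algebra.TensorProduct.lift_tmul u v (fun _ _ => .all _ _) 1 x).trans (by rw [map_one, one_mul]; rfl)
  choose ΦC hΦC using hexC
  have hCext : ∀ Θ Θ' : C →ₐ[R] Ω, (∀ x, Θ (inc x) = Θ' (inc x)) → Θ = Θ' := fun Θ Θ' hh => by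
    have h1 : Θ.comp incA = Θ'.comp incA := extA _ _ fun a => by
      show Θ (algebraMap AR C (algebraMap A AR a)) = Θ' (algebraMap AR C (algebraMap A AR a))
      rw [hbal, hh]
    refine AlgHom.ext fun z => ?_
    induction z using TensorProduct.induction_on with
    | zero => simp
    | add x y hx hy => simp only [map_add, hx, hy]
    | tmul w x =>
      have he : (w ⊗ₜ[A] x : C) = incA w * inc x :=
        ((Algebra.TensorProduct.tmul_mul_tmul (R := A) w 1 1 x).trans (by rw [mul_one, one_mul])).symm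
      rw [he, map_mul, map_mul, hh]
      congr 1
      exact DFunLike.congr_fun h1 w
  have hΦ : ∀ Θ : C →ₐ[R] Ω, ∃ φ, Θ = ΦC φ := fun Θ => by
    let φ : A' →ₐ[K] Ω :=
      { Θ.toRingHom.comp inc.toRingHom with
        commutes' := fun k => by
          show Θ (inc (algebraMap K A' k)) = _
          rw [IsScalarTower.algebraMap_apply K A A', ← hbal, ← IsScalarTower.algebraMap_apply K A AR]
          exact hrest (Θ.comp incA) k }
    exact ⟨φ, hCext _ _ fun x => (hΦC φ x).symm⟩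
  -- points of the closed fibre
  have hprA : ∀ x : Ideal AR, [x.IsPrime] → x.comap (algebraMap R AR) = maximalIdeal R →
      x.IsMaximal ∧ Algebra.IsIntegral R (AR ⧸ x) := fun x _ hx =>
    ⟨Ideal.isMaximal_of_isIntegral_of_isMaximal_comap x (hx ▸ maximalIdeal.isMaximal R),
      ⟨fun z => by
        obtain ⟨w, rfl⟩ := Ideal.Quotient.mk_surjective z
        exact (Algebra.IsIntegral.isIntegral (R := R) w).map (Ideal.Quotient.mkₐ R x)⟩⟩
  have hprC : ∀ y : Ideal C, [y.IsPrime] → y.comap (algebraMap R C) = maximalIdeal R →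
      Algebra.IsIntegral R (C ⧸ y) := fun y _ hy => by
    obtain ⟨h1, h2⟩ := hprA (y.comap (algebraMap AR C))
      (by rw [Ideal.comap_comap, ← IsScalarTower.algebraMap_eq]; exact hy)
    exact isIntegral_quotient_of_etale y h2
  have hcomap : ∀ (T : Type u) [CommRing T] [Algebra R T] (Θ : T →ₐ[R] Ω),
      (RingHom.ker Θ).comap (algebraMap R T) = maximalIdeal R := fun T _ _ Θ => by
    rw [← hker]; exact (RingHom.comap_ker Θ.toRingHom (algebraMap R T)).trans (congrArg RingHom.ker Θ.comp_algebraMap)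
  have hmaxC : ∀ φ, (RingHom.ker (ΦC φ)).IsMaximal := fun φ =>
    haveI := RingHom.ker_isPrime (ΦC φ)
    (algHom_unique_exists (Ω := Ω) hker _ (hcomap C _) (hprC _ (hcomap C _))).1
  have hinjC : ∀ φ φ', RingHom.ker (ΦC φ) = RingHom.ker (ΦC φ') → φ = φ' := fun φ φ' e => by
    haveI := RingHom.ker_isPrime (ΦC φ)
    have := (algHom_unique_exists (Ω := Ω) hker _ (hcomap C (ΦC φ)) (hprC _ (hcomap C _))).2.2 _ _ rfl e.symm
    exact AlgHom.ext fun x => by rw [← hΦC φ x, ← hΦC φ' x, this]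
  have := h.finite_points φ₀
  let := Fintype.ofFinite (A' →ₐ[K] Ω)
  -- an element vanishing exactly at the points outside the orbit
  obtain ⟨e, he⟩ : ∃ e : C, ∀ φ, ΦC φ e ≠ 0 ↔ φ ∈ orbit s' t' φ₀ := by
    let I : Ideal C := (Finset.univ.filter (· ∉ orbit s' t' φ₀)).inf fun φ => RingHom.ker (ΦC φ)
    let good : Finset (A' →ₐ[K] Ω) := Finset.univ.filter (· ∈ orbit s' t' φ₀)
    obtain ⟨e, heI, heg⟩ : ∃ e ∈ I, ∀ φ ∈ good, e ∉ RingHom.ker (ΦC φ) := by
      by_contra hh
      push Not at hh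
      have hsub : (I : Set C) ⊆ ⋃ φ ∈ (↑good : Set _), (RingHom.ker (ΦC φ) : Set C) := fun x hx => by
        obtain ⟨φ, hφ, hxφ⟩ := hh x hx
        exact Set.mem_biUnion hφ hxφ
      obtain ⟨φ, hφ, hle⟩ := (Ideal.subset_union_prime φ₀ φ₀ fun φ _ _ _ => RingHom.ker_isPrime (ΦC φ)).1 hsub
      obtain ⟨φ', hφ', hle'⟩ := ((RingHom.ker_isPrime (ΦC φ)).inf_le').1 hle
      have := hinjC _ _ ((hmaxC φ').eq_of_le (hmaxC φ).ne_top hle')
      exact (Finset.mem_filter.1 hφ').2 (this ▸ (Finset.mem_filter.1 hφ).2)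
    refine ⟨e, fun φ => ⟨fun hne => ?_, fun hφ => heg φ (Finset.mem_filter.2 ⟨Finset.mem_univ _, hφ⟩)⟩⟩
    by_contra hφ
    exact hne ((Finset.inf_le (Finset.mem_filter.2 ⟨Finset.mem_univ φ, hφ⟩) :
      I ≤ RingHom.ker (ΦC φ)) heI)
  let E := Localization.Away e
  have : Algebra.Etale AR E :=
    have : Algebra.Etale C E := inferInstance
    Algebra.Etale.comp AR C E
  have hlift : ∀ φ ∈ orbit s' t' φ₀, ∃ y : PrimeSpectrum E,
      y.asIdeal.comap (algebraMap C E) = RingHom.ker (ΦC φ) := fun φ hφ => by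
    haveI := RingHom.ker_isPrime (ΦC φ)
    obtain ⟨y, hy⟩ := (PrimeSpectrum.localization_away_comap_range E e).ge
      (show (⟨RingHom.ker (ΦC φ), inferInstance⟩ : PrimeSpectrum C) ∈ (PrimeSpectrum.basicOpen e : Set _) from
        fun hm => (he φ).2 hφ (RingHom.mem_ker.1 hm))
    exact ⟨y, congrArg PrimeSpectrum.asIdeal hy⟩
  have hsurj : ∀ x : PrimeSpectrum AR, x.asIdeal.comap (algebraMap R AR) = maximalIdeal R →
      ∃ y : PrimeSpectrum E, PrimeSpectrum.comap (algebraMap AR E) y = x := fun x hx => by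
    obtain ⟨Θx, hΘx⟩ := (algHom_unique_exists (Ω := Ω) hker x.asIdeal hx (hprA _ hx).2).2.1
    let ξ : A →ₐ[K] Ω := (Θx.restrictScalars K).comp (IsScalarTower.toAlgHom K A AR)
    obtain ⟨φ, hφ, hφξ⟩ := h.orbit_exists φ₀ ξ
    obtain ⟨y, hy⟩ := hlift φ hφ
    have hres : (ΦC φ).comp incA = Θx := extA _ _ fun a => by
      show ΦC φ (algebraMap AR C (algebraMap A AR a)) = _
      rw [hbal, hΦC]; exact hφξ a
    refine ⟨y, PrimeSpectrum.ext ?_⟩
    show y.asIdeal.comap (algebraMap AR E) = _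
    rw [IsScalarTower.algebraMap_eq AR C E, ← Ideal.comap_comap, hy, ← hΘx, ← hres]
    rfl
  obtain ⟨Q, hQ⟩ := hlift φ₀ (h.mem_orbit_self φ₀)
  obtain ⟨ψ, -⟩ := EtFound.exists_section_integral (R := R) AR E hsurj Q (by
    rw [IsScalarTower.algebraMap_eq AR C E, ← Ideal.comap_comap, hQ, Ideal.comap_comap,
      ← IsScalarTower.algebraMap_eq]
    exact hcomap C _)
  let ψC : C →ₐ[AR] AR := ψ.comp (IsScalarTower.toAlgHom AR C E)
  refine ⟨(ψC.restrictScalars A).comp inc, fun Θ => ?_⟩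
  obtain ⟨φ, hφ⟩ := hΦ (Θ.comp (ψC.restrictScalars R))
  have hu : IsUnit (Θ (ψC e)) :=
    ((IsLocalization.Away.algebraMap_isUnit (S := E) e).map ψ).map Θ
  refine ⟨φ, (he φ).1 (hφ ▸ hu.ne_zero), fun x => ?_⟩
  rw [← hΦC φ x, ← hφ]
  rfl

open Hensel in
/-- Over the strict henselization, an etale cartesian morphism of groupoids has an invariant section
through any point. -/
theorem CartData.exists_section (h : CartData s t s' t' g) [Algebra.Etale A A'] (φ₀ : A' →ₐ[K] Ω) :
    ∃ (φR : A' →ₐ[A] A ⊗[K] Henz K Ω) (χR : B' →ₐ[K] B ⊗[K] Henz K Ω),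
      χR.comp g = Algebra.TensorProduct.includeLeft ∧
      (∀ x, χR (s' x) = Algebra.TensorProduct.map s (AlgHom.id K _) (φR x)) ∧
      (∀ x, χR (t' x) = Algebra.TensorProduct.map t (AlgHom.id K _) (φR x)) ∧
      ∀ x, Algebra.TensorProduct.lift (φ₀.comp (IsScalarTower.toAlgHom K A A')) (Henz.proj K Ω)
        (fun _ _ => .all _ _) (φR x) = φ₀ x := by
  classical
  let R := Henz K Ω
  have := EtFound.henselianLocalRing_henz' K Ω
  have := EtFound.isSepClosed_residue_henz' K Ω
  let : Algebra R Ω := (Henz.proj K Ω).toRingHom.toAlgebra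
  have : IsScalarTower K R Ω := .of_algebraMap_eq fun k => ((Henz.proj K Ω).commutes k).symm
  have hker : RingHom.ker (algebraMap R Ω) = maximalIdeal R := (EtFound.maximalIdeal_henz' K Ω).symm
  let AR := A ⊗[K] R
  let : Algebra R AR := (Algebra.TensorProduct.includeRight (R := K) (A := A) (B := R)).toRingHom.toAlgebra
  have : IsScalarTower K R AR := .of_algebraMap_eq fun k =>
    ((Algebra.TensorProduct.includeRight (R := K) (A := A) (B := R)).commutes k).symm
  have := h.intA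
  have : Algebra.IsIntegral R AR := isIntegral_tensor K A R fun _ => rfl
  let BR := B ⊗[K] R
  let : Algebra R BR := (Algebra.TensorProduct.includeRight (R := K) (A := B) (B := R)).toRingHom.toAlgebra
  have : IsScalarTower K R BR := .of_algebraMap_eq fun k =>
    ((Algebra.TensorProduct.includeRight (R := K) (A := B) (B := R)).commutes k).symm
  have := h.isIntegral_B
  have : Algebra.IsIntegral R BR := isIntegral_tensor K B R fun _ => rfl
  let LA : (A →ₐ[K] Ω) → AR →ₐ[K] Ω := fun ξ =>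
    Algebra.TensorProduct.lift ξ (Henz.proj K Ω) fun _ _ => .all _ _
  have hLA : ∀ ξ a r, LA ξ (a ⊗ₜ r) = ξ a * Henz.proj K Ω r := fun ξ a r =>
    Algebra.TensorProduct.lift_tmul ξ (Henz.proj K Ω) (fun _ _ => .all _ _) a r
  have hAR : ∀ Θ : AR →ₐ[R] Ω, ∀ z, Θ z =
      LA ((Θ.restrictScalars K).comp (IsScalarTower.toAlgHom K A AR)) z := fun Θ z => by
    induction z using TensorProduct.induction_on with
    | zero => simp
    | add x y hx hy => simp only [map_add, hx, hy]
    | tmul a r =>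
      have he : (a ⊗ₜ[K] r : AR) = algebraMap A AR a * algebraMap R AR r :=
        ((Algebra.TensorProduct.tmul_mul_tmul (R := K) a 1 (1 : R) r).trans (by rw [mul_one, one_mul])).symm
      rw [hLA, he, map_mul, Θ.commutes]
      rfl
  obtain ⟨φR, hφR⟩ := h.exists_orbit_section φ₀ R hker AR
    (fun ξ => ⟨{ (LA ξ).toRingHom with
      commutes' := fun r => (hLA ξ 1 r).trans (by rw [map_one, one_mul]; rfl) }, fun a =>
        (hLA ξ a 1).trans (by rw [map_one, mul_one])⟩)
    (fun Θ Θ' hh => AlgHom.ext fun z => by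
      rw [hAR Θ, hAR Θ', show (Θ.restrictScalars K).comp (IsScalarTower.toAlgHom K A AR) =
        (Θ'.restrictScalars K).comp (IsScalarTower.toAlgHom K A AR) from AlgHom.ext hh])
  -- values at the points
  have hval : ∀ ξ : A →ₐ[K] Ω, ∃ φ ∈ orbit s' t' φ₀,
      (∀ a, φ (algebraMap A A' a) = ξ a) ∧ ∀ x, LA ξ (φR x) = φ x := fun ξ => by
    obtain ⟨φ, hφ, hv⟩ := hφR { (LA ξ).toRingHom with
      commutes' := fun r => (hLA ξ 1 r).trans (by rw [map_one, one_mul]; rfl) }
    have hv' : ∀ x, LA ξ (φR x) = φ x := hv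
    refine ⟨φ, hφ, fun a => ?_, hv'⟩
    rw [← hv', φR.commutes]
    exact (hLA ξ a 1).trans (by rw [map_one, mul_one])
  -- equivariance
  let φK : A' →ₐ[K] AR := φR.restrictScalars K
  obtain ⟨χR, hχs, hχg⟩ := h.sqs ((Algebra.TensorProduct.map s (AlgHom.id K R)).comp φK)
    (Algebra.TensorProduct.includeLeft : B →ₐ[K] BR) (fun a => by
      show Algebra.TensorProduct.map s (AlgHom.id K R) (φR (algebraMap A A' a)) = _
      rw [φR.commutes]
      exact Algebra.TensorProduct.map_tmul s (AlgHom.id K R) a (1 : R))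
  refine ⟨φR, χR, hχg, fun x => DFunLike.congr_fun hχs x, ?_, fun x => ?_⟩
  · let tR := (Algebra.TensorProduct.map t (AlgHom.id K R))
    let : Algebra A BR := (tR.toRingHom.comp (algebraMap A AR)).toAlgebra
    let u₁ : A' →ₐ[A] BR :=
      { χR.toRingHom.comp t'.toRingHom with
        commutes' := fun a => by
          show χR (t' (algebraMap A A' a)) = tR (algebraMap A AR a)
          rw [h.gt, ← AlgHom.comp_apply, hχg]
          exact (Algebra.TensorProduct.map_tmul t (AlgHom.id K R) a (1 : R)).symm }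
    let u₂ : A' →ₐ[A] BR :=
      { tR.toRingHom.comp φR.toRingHom with
        commutes' := fun a => congrArg tR (φR.commutes a) }
    have := algHom_ext_maximal u₁ u₂ fun M hM x => by
      have hx : M.comap (algebraMap R BR) = maximalIdeal R :=
        IsLocalRing.eq_maximalIdeal (Ideal.isMaximal_comap_of_isIntegral_of_isMaximal M)
      obtain ⟨P, hP⟩ := (algHom_unique_exists (Ω := Ω) hker M hx ⟨fun z => by
        obtain ⟨w, rfl⟩ := Ideal.Quotient.mk_surjective z
        exact (Algebra.IsIntegral.isIntegral (R := R) w).map (Ideal.Quotient.mkₐ R M)⟩).2.1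
      let χ : B →ₐ[K] Ω := (P.restrictScalars K).comp Algebra.TensorProduct.includeLeft
      have hPs : ∀ (σ : A →ₐ[K] B) (z : AR),
          P (Algebra.TensorProduct.map σ (AlgHom.id K R) z) = LA (χ.comp σ) z := fun σ z => by
        induction z using TensorProduct.induction_on with
        | zero => simp
        | add x y hx hy => simp only [map_add, hx, hy]
        | tmul a r =>
          have he' : (σ a ⊗ₜ[K] r : BR) = (σ a ⊗ₜ 1) * algebraMap R BR r :=
            ((Algebra.TensorProduct.tmul_mul_tmul (R := K) (σ a) 1 (1 : R) r).trans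
              (by rw [mul_one, one_mul])).symm
          rw [Algebra.TensorProduct.map_tmul, AlgHom.id_apply, he', map_mul, P.commutes, hLA]
          rfl
      obtain ⟨φs, hφs, -, hvs⟩ := hval (χ.comp s)
      obtain ⟨φt, hφt, hφt', hvt⟩ := hval (χ.comp t)
      let ρ : B' →ₐ[K] Ω := (P.restrictScalars K).comp χR
      have hρs : ρ.comp s' = φs := AlgHom.ext fun x => by
        show P (χR (s' x)) = _
        rw [show χR (s' x) = _ from DFunLike.congr_fun hχs x]
        exact (hPs s _).trans (hvs x)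
      have hρt : ρ.comp t' = φt := h.orbit_unique (h.mem_orbit_of_arrow ρ (hρs ▸ hφs)) hφt fun a => by
        rw [hφt']
        show P (χR (t' (algebraMap A A' a))) = _
        rw [h.gt, ← AlgHom.comp_apply χR g, hχg]
        rfl
      rw [← hP, RingHom.mem_ker, map_sub, sub_eq_zero]
      exact (DFunLike.congr_fun hρt x).trans ((hPs t _).trans (hvt x)).symm
    exact fun x => DFunLike.congr_fun this x
  · obtain ⟨φ, hφ, hφ', hv⟩ := hval (φ₀.comp (IsScalarTower.toAlgHom K A A'))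
    exact (hv x).trans (DFunLike.congr_fun (h.orbit_unique hφ (h.mem_orbit_self φ₀) hφ') x)

end Groth.Agent.GrpdEtQuot
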