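import Mathlib.RingTheory.Etale.Basic
import Mathlib.RingTheory.Etale.Field
import Mathlib.RingTheory.Unramified.Finite
import Mathlib.RingTheory.Unramified.Field
import Mathlib.RingTheory.Flat.Basic
import Mathlib.RingTheory.Flat.Equalizer
import Mathlib.FieldTheory.IsSepClosed
import Mathlib.FieldTheory.IsAlgClosed.Basic
import Mathlib.FieldTheory.PurelyInseparable.Basic
import Mathlib.RingTheory.Jacobson.Ideal
import Mathlib.RingTheory.Artinian.Module
import Mathlib.RingTheory.TensorProduct.Finite

/-!
# Tools for descending etale algebras along quotients of groupoids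
-/

set_option autoImplicit false

universe u

open scoped TensorProduct
open IsLocalRing

namespace Groth.Agent.GrpdEtQuot

/-- Two maps out of an unramified algebra agreeing at every maximal ideal are equal. -/
theorem algHom_ext_maximal {A C T : Type u} [CommRing A] [CommRing C] [Algebra A C]
    [Algebra.FormallyUnramified A C] [Algebra.EssFiniteType A C] [CommRing T] [Algebra A T]
    (u₁ u₂ : C →ₐ[A] T)
    (h : ∀ M : Ideal T, M.IsMaximal → ∀ c, u₁ c - u₂ c ∈ M) : u₁ = u₂ := by
  let Φ : C ⊗[A] C →ₐ[A] T := Algebra.TensorProduct.lift u₁ u₂ fun _ _ => .all _ _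
  let e := Φ (Algebra.FormallyUnramified.elem A C)
  have hu : IsUnit e := by
    by_contra hne
    obtain ⟨M, hM, heM⟩ := exists_max_ideal_of_mem_nonunits (show e ∈ nonunits T from hne)
    have hcomp : ∀ z, Φ z - u₁ (Algebra.TensorProduct.lmul' A z) ∈ M := by
      intro z
      induction z using TensorProduct.induction_on with
      | zero => simp
      | tmul a b =>
        simp only [Φ, Algebra.TensorProduct.lift_tmul, Algebra.TensorProduct.lmul'_apply_tmul, map_mul, ← mul_sub]
        exact M.mul_mem_left _ (by rw [← neg_sub]; exact M.neg_mem (h M hM b))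
      | add a b ha hb => simp only [map_add]; convert M.add_mem ha hb using 1; ring
    have h1 := hcomp (Algebra.FormallyUnramified.elem A C)
    rw [Algebra.FormallyUnramified.lmul_elem, map_one] at h1
    exact hM.ne_top ((Ideal.eq_top_iff_one _).2 (by simpa [e] using M.sub_mem heM h1))
  refine AlgHom.ext fun c => ?_
  have h0 := congrArg Φ (Algebra.FormallyUnramified.one_tmul_sub_tmul_one_mul_elem (R := A) c)
  simp only [map_mul, map_sub, Φ, Algebra.TensorProduct.lift_tmul, map_one, one_mul, mul_one, map_zero] at h0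
  exact (sub_eq_zero.1 ((IsUnit.mul_left_eq_zero hu).1 h0)).symm

/-- A section of an unramified algebra over a base change gives an idempotent. -/
theorem exists_elem_section {A C T : Type u} [CommRing A] [CommRing C] [Algebra A C]
    [Algebra.FormallyUnramified A C] [Algebra.EssFiniteType A C] [CommRing T] [Algebra A T]
    (u₁ u₂ : C →ₐ[A] T) :
    ∃ e : T, (∀ c, (u₁ c - u₂ c) * e = 0) ∧
      ∀ {S : Type u} [CommRing S] (ψ : T →+* S), (∀ c, ψ (u₁ c) = ψ (u₂ c)) → ψ e = 1 := by
  let Φ : C ⊗[A] C →ₐ[A] T := Algebra.TensorProduct.lift u₁ u₂ fun _ _ => .all _ _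
  refine ⟨Φ (Algebra.FormallyUnramified.elem A C), fun c => ?_, fun {S} _ ψ h => ?_⟩
  · have h0 := congrArg Φ (Algebra.FormallyUnramified.one_tmul_sub_tmul_one_mul_elem (R := A) c)
    simp only [map_mul, map_sub, Φ, Algebra.TensorProduct.lift_tmul, map_one, one_mul, mul_one, map_zero] at h0
    linear_combination -h0
  · have hcomp : ∀ z, ψ (Φ z) = ψ (u₁ (Algebra.TensorProduct.lmul' A z)) := by
      intro z
      induction z using TensorProduct.induction_on with
      | zero => simp
      | tmul a b => simp [Φ, h b]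
      | add a b ha hb => simp [ha, hb]
    rw [hcomp, Algebra.FormallyUnramified.lmul_elem, map_one, map_one]

/-- A module killed by a flat family of algebras hitting all maximal ideals is zero. -/
theorem eq_zero_of_forall_tmul {R : Type u} [CommRing R] {M : Type u} [AddCommGroup M] [Module R M] (m : M)
    (h : ∀ q : Ideal R, q.IsMaximal → ∃ (D : Type u) (_ : CommRing D) (_ : Algebra R D) (_ : Module.Flat R D)
      (d : PrimeSpectrum D), d.asIdeal.comap (algebraMap R D) = q ∧ m ⊗ₜ[R] (1 : D) = 0) : m = 0 := by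
  by_contra hm
  let f : R →ₗ[R] M := LinearMap.toSpanSingleton R M m
  have hne : LinearMap.ker f ≠ ⊤ := fun e => hm (by
    have : (1 : R) ∈ LinearMap.ker f := e ▸ Submodule.mem_top
    simpa [f] using this)
  obtain ⟨q, hq, hle⟩ := Ideal.exists_le_maximal (LinearMap.ker f) hne
  obtain ⟨D, _, _, _, d, hd, h0⟩ := h q hq
  have hex : Function.Exact (LinearMap.ker f).subtype f := LinearMap.exact_subtype_ker_map f
  have h2 := Module.Flat.rTensor_exact D hex
  obtain ⟨z, hz⟩ := (h2 ((1 : R) ⊗ₜ[R] (1 : D))).1 (by simpa [f] using h0)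
  have hmem : ∀ z : (LinearMap.ker f) ⊗[R] D,
      TensorProduct.lid R D ((LinearMap.ker f).subtype.rTensor D z) ∈ d.asIdeal := by
    intro z
    induction z using TensorProduct.induction_on with
    | zero => simp
    | tmul a b =>
      simp only [LinearMap.rTensor_tmul, Submodule.subtype_apply, TensorProduct.lid_tmul, Algebra.smul_def]
      refine d.asIdeal.mul_mem_right _ ?_
      have := hle a.2
      rw [← hd] at this
      exact this
    | add a b ha hb => simp only [map_add]; exact d.asIdeal.add_mem ha hb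
  have := hmem z
  rw [hz, TensorProduct.lid_tmul, one_smul] at this
  exact d.2.ne_top ((Ideal.eq_top_iff_one _).2 this)

/-- Flat base change of an equalizer. -/
theorem exists_of_map_eq {K A B K₀ : Type u} [CommRing K] [CommRing A] [Algebra K A] [CommRing B] [Algebra K B]
    [CommRing K₀] [Algebra K K₀] (ι : K₀ →ₐ[K] A) (s t : A →ₐ[K] B) (hι : Function.Injective ι)
    (heq : ∀ a, s a = t a ↔ a ∈ Set.range ι) (D : Type u) [CommRing D] [Algebra K D] [Module.Flat K D] :
    Function.Injective (Algebra.TensorProduct.map ι (AlgHom.id K D)) ∧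
      ∀ z, Algebra.TensorProduct.map s (AlgHom.id K D) z = Algebra.TensorProduct.map t (AlgHom.id K D) z →
        z ∈ Set.range (Algebra.TensorProduct.map ι (AlgHom.id K D)) := by
  have hmap : ∀ {X Y : Type u} [CommRing X] [Algebra K X] [CommRing Y] [Algebra K Y] (φ : X →ₐ[K] Y) (z : X ⊗[K] D),
      Algebra.TensorProduct.map φ (AlgHom.id K D) z = φ.toLinearMap.rTensor D z := by
    intro X Y _ _ _ _ φ z
    induction z using TensorProduct.induction_on with
    | zero => simp
    | tmul a b => simp
    | add a b ha hb => simp only [map_add, ha, hb]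
  refine ⟨fun x y h => ?_, fun z hz => ?_⟩
  · rw [hmap, hmap] at h
    exact Module.Flat.rTensor_preserves_injective_linearMap ι.toLinearMap hι h
  · let f : A →ₗ[K] B := s.toLinearMap - t.toLinearMap
    have hex : Function.Exact ι.toLinearMap f := by
      intro a
      simp only [f, LinearMap.sub_apply, sub_eq_zero, AlgHom.toLinearMap_apply]
      exact heq a
    have hz' : f.rTensor D z = 0 := by
      rw [LinearMap.rTensor_sub, LinearMap.sub_apply, ← hmap, ← hmap, hz, sub_self]
    obtain ⟨w, hw⟩ := (Module.Flat.rTensor_exact D hex z).1 hz'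
    exact ⟨w, by rw [hmap, hw]⟩

/-- Over a separably closed field, a map out of an algebraic field is determined, and exists. -/
theorem algHom_unique_exists {R T Ω : Type u} [CommRing R] [IsLocalRing R] [IsSepClosed (ResidueField R)]
    [Field Ω] [IsAlgClosed Ω] [Algebra R Ω] (hker : RingHom.ker (algebraMap R Ω) = maximalIdeal R)
    [CommRing T] [Algebra R T] (y : Ideal T) [y.IsPrime] (hy : y.comap (algebraMap R T) = maximalIdeal R)
    (hint : Algebra.IsIntegral R (T ⧸ y)) :
    y.IsMaximal ∧ (∃ φ : T →ₐ[R] Ω, RingHom.ker φ = y) ∧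
      ∀ φ φ' : T →ₐ[R] Ω, RingHom.ker φ = y → RingHom.ker φ' = y → φ = φ' := by
  let k := ResidueField R
  have hmax : y.IsMaximal := by
    have : y.IsMaximal ↔ IsField (T ⧸ y) := Ideal.Quotient.maximal_ideal_iff_isField_quotient y
    refine this.2 ?_
    let i : k →+* T ⧸ y := Ideal.Quotient.lift (maximalIdeal R) (algebraMap R (T ⧸ y)) fun a ha => by
      rw [← hy] at ha
      exact Ideal.Quotient.eq_zero_iff_mem.2 ha
    let : Algebra k (T ⧸ y) := i.toAlgebra
    have : IsScalarTower R k (T ⧸ y) := .of_algebraMap_eq fun r => rfl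
    have : Algebra.IsIntegral k (T ⧸ y) := Algebra.IsIntegral.tower_top (R := R)
    exact isField_of_isIntegral_of_isField' (Field.toIsField k)
  let : Field (T ⧸ y) := Ideal.Quotient.field y
  let i : k →+* T ⧸ y := Ideal.Quotient.lift (maximalIdeal R) (algebraMap R (T ⧸ y)) fun a ha => by
    rw [← hy] at ha
    exact Ideal.Quotient.eq_zero_iff_mem.2 ha
  let : Algebra k (T ⧸ y) := i.toAlgebra
  have : IsScalarTower R k (T ⧸ y) := .of_algebraMap_eq fun r => rfl
  have : Algebra.IsIntegral k (T ⧸ y) := Algebra.IsIntegral.tower_top (R := R)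
  have : Algebra.IsAlgebraic k (T ⧸ y) := Algebra.IsIntegral.isAlgebraic
  let o : k →+* Ω := Ideal.Quotient.lift (maximalIdeal R) (algebraMap R Ω) fun a ha => by
    rw [← hker] at ha
    exact RingHom.mem_ker.1 ha
  let : Algebra k Ω := o.toAlgebra
  have : IsScalarTower R k Ω := .of_algebraMap_eq fun r => rfl
  refine ⟨hmax, ?_, fun φ φ' hφ hφ' => ?_⟩
  · let ψ : (T ⧸ y) →ₐ[k] Ω := IsAlgClosed.lift
    refine ⟨(ψ.restrictScalars R).comp (Ideal.Quotient.mkₐ R y), ?_⟩
    ext x
    rw [RingHom.mem_ker]
    show ψ (Ideal.Quotient.mk y x) = 0 ↔ _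
    rw [map_eq_zero_iff ψ ψ.toRingHom.injective, Ideal.Quotient.eq_zero_iff_mem]
  · have : IsPurelyInseparable k (T ⧸ y) := inferInstance
    let ψ : T ⧸ y →+* Ω := Ideal.Quotient.lift y φ.toRingHom fun a ha => by
      rw [← hφ] at ha; exact RingHom.mem_ker.1 ha
    let ψ' : T ⧸ y →+* Ω := Ideal.Quotient.lift y φ'.toRingHom fun a ha => by
      rw [← hφ'] at ha; exact RingHom.mem_ker.1 ha
    have hψ : ψ.comp (algebraMap k (T ⧸ y)) = ψ'.comp (algebraMap k (T ⧸ y)) := by
      refine Ideal.Quotient.ringHom_ext (RingHom.ext fun r => ?_)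
      exact (φ.commutes r).trans (φ'.commutes r).symm
    have h2 := IsPurelyInseparable.injective_comp_algebraMap k (T ⧸ y) Ω hψ
    exact AlgHom.ext fun b => DFunLike.congr_fun h2 (Ideal.Quotient.mk y b)

/-- Finitely many maps from a finite algebra into a field. -/
theorem finite_algHom {A B Ω : Type u} [CommRing A] [CommRing B] [Algebra A B]
    [Field Ω] [Algebra A Ω] [Module.Finite Ω (Ω ⊗[A] B)] : Finite (B →ₐ[A] Ω) := by
  let E := Ω ⊗[A] B
  have : IsArtinianRing E := IsArtinianRing.of_finite Ω E
  let L : (B →ₐ[A] Ω) → (E →ₐ[Ω] Ω) := fun φ => Algebra.TensorProduct.lift (Algebra.ofId Ω Ω) φ fun _ _ => .all _ _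
  have hL : Function.Injective L := fun φ ψ h => AlgHom.ext fun b => by
    have h1 := DFunLike.congr_fun h ((1 : Ω) ⊗ₜ[A] b)
    have e : ∀ χ : B →ₐ[A] Ω, L χ ((1 : Ω) ⊗ₜ[A] b) = χ b := fun χ =>
      (Algebra.TensorProduct.lift_tmul _ χ _ 1 b).trans (by rw [map_one, one_mul])
    rwa [e, e] at h1
  let κ : (E →ₐ[Ω] Ω) → PrimeSpectrum E := fun φ => ⟨RingHom.ker φ, RingHom.ker_isPrime _⟩
  have hκ : Function.Injective κ := fun φ ψ h => AlgHom.ext fun z => by
    have h' : RingHom.ker φ = RingHom.ker ψ := congrArg PrimeSpectrum.asIdeal h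
    have : z - algebraMap Ω E (φ z) ∈ RingHom.ker φ := by simp [RingHom.mem_ker]
    rw [h', RingHom.mem_ker, map_sub, sub_eq_zero, AlgHom.commutes] at this
    exact this.symm
  exact Finite.of_injective _ (hκ.comp hL)

/-- The residue rings of an etale algebra over an algebra with integral residue rings are integral. -/
theorem isIntegral_quotient_of_etale {R T C : Type u} [CommRing R] [CommRing T] [CommRing C] [Algebra R T]
    [Algebra T C] [Algebra R C] [IsScalarTower R T C] [Algebra.Etale T C] (y : Ideal C) [y.IsPrime]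
    [(y.comap (algebraMap T C)).IsMaximal] (hint : Algebra.IsIntegral R (T ⧸ y.comap (algebraMap T C))) :
    Algebra.IsIntegral R (C ⧸ y) := by
  let x := y.comap (algebraMap T C)
  let : Field (T ⧸ x) := Ideal.Quotient.field x
  let E := (T ⧸ x) ⊗[T] C
  have : Algebra.Etale (T ⧸ x) E := inferInstance
  have hfin : Module.Finite (T ⧸ x) E := Algebra.FormallyUnramified.finite_of_free _ _
  let j : E →ₐ[T] C ⧸ y := Algebra.TensorProduct.lift (Ideal.quotientMapₐ y (Algebra.ofId T C) le_rfl)
    (Ideal.Quotient.mkₐ T y) fun _ _ => .all _ _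
  have hj : Function.Surjective j := fun z => by
    obtain ⟨c, rfl⟩ := Ideal.Quotient.mk_surjective z
    exact ⟨1 ⊗ₜ c, (Algebra.TensorProduct.lift_tmul _ _ _ 1 c).trans (by rw [map_one, one_mul]; rfl)⟩
  refine ⟨fun z => ?_⟩
  obtain ⟨w, rfl⟩ := hj z
  have h1 : IsIntegral R w := isIntegral_trans (A := T ⧸ x) w (Algebra.IsIntegral.isIntegral w)
  exact h1.map (j.restrictScalars R)

end Groth.Agent.GrpdEtQuot
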